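import Groth.Agent.Lib.SimpGod16.Flasque
import Groth.Agent.Lib.DblCx16.SpecSeq
import Groth.Agent.Lib.CohTop16.PullH

/-! Descent from augmented semi-simplicial spaces. -/

universe u

open CategoryTheory TopologicalSpace Opposite CategoryTheory.Limits

set_option autoImplicit false
set_option linter.style.haveILetI false
set_option backward.isDefEq.respectTransparency false
set_option backward.isDefEq.respectTransparency.types false

namespace Groth.Agent.SimpGod16

open Groth.Agent.CohFound Groth.Agent.GodTot16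

variable {S : TopCat.{u}} (F : CohTop.Ab S)

/-- An augmented semi-simplicial system. -/
structure Sys (S : TopCat.{u}) : Type (u + 1) where
  obj : ℕ → Sp S
  δ : ∀ p, Fin (p + 1) → (obj (p + 1) ⟶ obj p)
  δ_δ : ∀ (p) (i j : Fin (p + 1)), i ≤ j → δ (p + 1) j.succ ≫ δ p i = δ (p + 1) i.castSucc ≫ δ p j

variable (A : Sys S)

/-- The horizontal differential. -/
noncomputable def hDiff (p q : ℕ) : (C F q).obj (op (A.obj p)) →+ (C F q).obj (op (A.obj (p + 1))) :=
  ∑ i : Fin (p + 1), ((-1 : ℤ) ^ (i : ℕ)) • ((C F q).map (A.δ p i).op).hom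

theorem hDiff_apply (p q : ℕ) (x : (C F q).obj (op (A.obj p))) :
    hDiff F A p q x = ∑ i : Fin (p + 1), ((-1 : ℤ) ^ (i : ℕ)) • (C F q).map (A.δ p i).op x := by
  show (∑ i : Fin (p + 1), ((-1 : ℤ) ^ (i : ℕ)) • ((C F q).map (A.δ p i).op).hom) x = _
  rw [AddMonoidHom.finsetSum_apply]
  rfl

theorem hDiff_hDiff (p q : ℕ) (x : (C F q).obj (op (A.obj p))) :
    hDiff F A (p + 1) q (hDiff F A p q x) = 0 := by
  rw [hDiff_apply, hDiff_apply]
  simp only [map_sum, map_zsmul, Finset.smul_sum, smul_smul, ← map_comp_apply]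
  rw [← Finset.sum_product']
  let P := Fin (p + 1 + 1) × Fin (p + 1)
  let T : Finset P := {ij : P | (ij.1 : ℕ) ≤ (ij.2 : ℕ)}
  rw [Finset.univ_product_univ, ← Finset.sum_add_sum_compl T, ← eq_neg_iff_add_eq_zero, ← Finset.sum_neg_distrib]
  let φ : ∀ ij : P, ij ∈ T → P := fun ij hij =>
    (ij.2.succ, Fin.castLT ij.1 (lt_of_le_of_lt (Finset.mem_filter.mp hij).right ij.2.is_lt))
  apply Finset.sum_bij φ
  · intro ij hij
    simp_rw [T, φ, Finset.compl_filter, Finset.mem_filter_univ, Fin.val_succ, Fin.val_castLT] at hij ⊢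
    omega
  · rintro ⟨i, j⟩ hij ⟨i', j'⟩ hij' h
    rw [Prod.mk_inj]
    exact ⟨by simpa [φ, Fin.castSucc_castLT] using! congr_arg Fin.castSucc (congr_arg Prod.snd h),
      by simpa [φ] using! congr_arg Prod.fst h⟩
  · rintro ⟨i', j'⟩ hij'
    simp_rw [T, Finset.compl_filter, Finset.mem_filter_univ, not_le] at hij'
    refine ⟨(Fin.castSucc j', i'.pred <| ?_), ?_, ?_⟩
    · rintro rfl
      simp only [Fin.val_zero, not_lt_zero] at hij'
    · simpa [T] using! Nat.le_sub_one_of_lt hij'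
    · simp only [φ, Fin.castLT_castSucc, Fin.succ_pred]
  · rintro ⟨i, j⟩ hij
    dsimp only [φ]
    rw [A.δ_δ p _ j (by simpa [T] using! hij), Fin.castSucc_castLT, ← neg_smul]
    congr 1
    simp only [Fin.val_succ, Fin.val_castLT, pow_succ]
    ring

theorem hDiff_natural {B : Sys S} (f : ∀ p, A.obj p ⟶ B.obj p) (hf : ∀ p i, A.δ p i ≫ f p = f (p + 1) ≫ B.δ p i)
    (p q : ℕ) (x : (C F q).obj (op (B.obj p))) :
    (C F q).map (f (p + 1)).op (hDiff F B p q x) = hDiff F A p q ((C F q).map (f p).op x) := by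
  rw [hDiff_apply, hDiff_apply, map_sum]
  refine Finset.sum_congr rfl fun i _ => ?_
  rw [map_zsmul, ← map_comp_apply, ← map_comp_apply, hf]

/-- The double complex of a system. -/
noncomputable def dbl : DblCx16.Dbl.{u} where
  X p q := (C F q).obj (op (A.obj p))
  h p q := hDiff F A p q
  v p q := ((d F q).app (op (A.obj p))).hom
  hh p q x := hDiff_hDiff F A p q x
  vv p q x := congrArg (fun φ : C F q ⟶ C F (q + 1 + 1) => φ.app (op (A.obj p)) x) (d_d F q)
  hv p q x := by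
    refine (hDiff_apply F A p (q + 1) _).trans ?_
    refine Eq.trans ?_ (congrArg ((d F q).app (op (A.obj (p + 1)))) (hDiff_apply F A p q x)).symm
    rw [map_sum]
    refine Finset.sum_congr rfl fun i _ => ?_
    rw [map_zsmul]
    exact congrArg _ (NatTrans.naturality_apply (d F q) (A.δ p i).op x).symm

variable {A}

/-- A morphism of systems. -/
@[ext]
structure SysHom (A B : Sys S) where
  f : ∀ p, A.obj p ⟶ B.obj p
  comm : ∀ p i, A.δ p i ≫ f p = f (p + 1) ≫ B.δ p i

/-- The map of double complexes. -/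
noncomputable def dblMap {B : Sys S} (φ : SysHom A B) : DblCx16.Hom (dbl F B) (dbl F A) where
  f p q := ((C F q).map (φ.f p).op).hom
  f_h p q x := hDiff_natural F A φ.f φ.comm p q x
  f_v p q x := (NatTrans.naturality_apply (d F q) (φ.f p).op x).symm

/-- A contraction: extra degeneracies. -/
structure Contraction (A : Sys S) where
  s : ∀ p, A.obj p ⟶ A.obj (p + 1)
  s_δ₀ : ∀ p, s p ≫ A.δ p 0 = 𝟙 _
  s_δ : ∀ p i, s (p + 1) ≫ A.δ (p + 1) i.succ = A.δ p i ≫ s p

theorem totExact_of_contraction (c : Contraction A) (n : ℤ) : DblCx16.TotExact (dbl F A) n := by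
  have id' : ∀ p q (x : (C F q).obj (op (A.obj p))), (C F q).map (c.s p).op ((C F q).map (A.δ p 0).op x) = x := fun p q x => by
    rw [← map_comp_apply, c.s_δ₀, op_id, CategoryTheory.Functor.map_id]
    rfl
  refine DblCx16.totExact_of_rows (dbl F A) (fun q x hx => ?_) (fun p q x hx => ?_) n
  · have h0 : hDiff F A 0 q x = (C F q).map (A.δ 0 0).op x := by
      rw [hDiff_apply, Fin.sum_univ_one]
      simp
    rw [← id' 0 q x, ← h0]
    exact (congrArg _ hx).trans (map_zero _)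
  · refine ⟨(C F q).map (c.s p).op x, ?_⟩
    have key : (C F q).map (c.s (p + 1)).op (hDiff F A (p + 1) q x) + hDiff F A p q ((C F q).map (c.s p).op x) = x := by
      rw [hDiff_apply, hDiff_apply, Fin.sum_univ_succ, map_add, map_sum, Fin.val_zero, pow_zero, one_smul,
        id', add_assoc, ← Finset.sum_add_distrib, Finset.sum_eq_zero, add_zero]
      intro i _
      rw [map_zsmul, ← map_comp_apply, c.s_δ, map_comp_apply, Fin.val_succ, pow_succ, mul_neg_one, neg_smul,
        neg_add_cancel]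
    have hx' : hDiff F A (p + 1) q x = 0 := hx
    rw [hx', map_zero, zero_add] at key
    exact key

/-- An augmented semi-simplicial space over `S`. -/
structure Aug (S : TopCat.{u}) : Type (u + 1) where
  X : ℕ → Over S
  δ : ∀ p, Fin (p + 1) → (X (p + 1) ⟶ X p)
  δ_δ : ∀ (p) (i j : Fin (p + 1)), i ≤ j → δ (p + 1) j.succ ≫ δ p i = δ (p + 1) i.castSucc ≫ δ p j

variable (A' : Aug S)

/-- The preimage of an open of the base. -/
abbrev over' (Y : Over S) (V : Opens S) : Sp S := ⟨Y, (Opens.map Y.hom).obj V⟩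

/-- The morphism of preimages. -/
def overMap {Y Y' : Over S} (g : Y ⟶ Y') (V : Opens S) : over' Y V ⟶ over' Y' V :=
  mkHom (fun v => ⟨g.left v.1, show Y'.hom (g.left v.1) ∈ V from (ConcreteCategory.congr_hom (Over.w g) v.1).symm ▸ v.2⟩)
    ((g.left.hom.continuous.comp continuous_subtype_val).subtype_mk _) fun v => ConcreteCategory.congr_hom (Over.w g) v.1

/-- The system over an open of the base. -/
def Aug.sys (V : Opens S) : Sys S where
  obj p := over' (A'.X p) V
  δ p i := overMap (A'.δ p i) V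
  δ_δ p i j h := hom_ext _ _ fun v => ConcreteCategory.congr_hom (congrArg CommaMorphism.left (A'.δ_δ p i j h)) v.1

/-- Restriction to a smaller open of the base. -/
def Aug.res {V W : Opens S} (h : V ≤ W) : SysHom (A'.sys V) (A'.sys W) where
  f p := incl (A'.X p) (fun _ hx => h hx)
  comm p i := hom_ext _ _ fun _ => rfl

/-- The restriction of double complexes. -/
noncomputable def Aug.rdbl {V W : Opens S} (h : V ≤ W) : DblCx16.Hom (dbl F (A'.sys W)) (dbl F (A'.sys V)) :=
  dblMap F (A'.res h)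

theorem Aug.rdbl_rdbl {U V W : Opens S} (h : V ≤ W) (h' : U ≤ V) (p q : ℕ) (x : (dbl F (A'.sys W)).X p q) :
    (A'.rdbl F h').f p q ((A'.rdbl F h).f p q x) = (A'.rdbl F (h'.trans h)).f p q x := by
  show (C F q).map _ ((C F q).map _ x) = (C F q).map _ x
  rw [← map_comp_apply]
  exact congrArg (fun f => (C F q).map (Quiver.Hom.op f) x) (hom_ext _ _ fun _ => rfl)

theorem Aug.rdbl_refl {V : Opens S} (p q : ℕ) (x : (dbl F (A'.sys V)).X p q) :
    (A'.rdbl F (le_refl V)).f p q x = x := by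
  show (C F q).map _ x = x
  rw [show (A'.res (le_refl V)).f p = 𝟙 _ from hom_ext _ _ fun _ => rfl, op_id, CategoryTheory.Functor.map_id]
  rfl

/-- Total cycles die locally on the base. -/
def Aug.LocExact : Prop :=
  ∀ (s : S) (V : Opens S), s ∈ V → ∀ (n : ℤ) (a : DblCx16.T (dbl F (A'.sys V)) n),
    DblCx16.td _ n (n + 1) rfl a = 0 → ∃ (W : Opens S) (hW : W ≤ V), s ∈ W ∧
      ∃ b, DblCx16.td _ (n - 1) n (sub_add_cancel n 1) b = (A'.rdbl F hW).tot n a

/-- The total groups as a presheaf on the base. -/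
noncomputable def Aug.totPre (n : ℤ) : TopCat.Presheaf AddCommGrpCat.{u} S where
  obj V := AddCommGrpCat.of (DblCx16.T (dbl F (A'.sys V.unop)) n)
  map {V W} i := AddCommGrpCat.ofHom ((A'.rdbl F (leOfHom i.unop)).tot n)
  map_id V := ConcreteCategory.hom_ext _ _ fun a => funext fun k => A'.rdbl_refl F _ _ _
  map_comp {U V W} i j := ConcreteCategory.hom_ext _ _ fun a => funext fun k =>
    (A'.rdbl_rdbl F (leOfHom i.unop) (leOfHom j.unop) _ _ _).symm

theorem Aug.totPre_map (n : ℤ) {V W : Opens S} (h : V ≤ W) (a : DblCx16.T (dbl F (A'.sys W)) n) :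
    (A'.totPre F n).map (homOfLE h).op a = (A'.rdbl F h).tot n a := rfl

theorem Aug.isSheaf_totPre (n : ℤ) : (A'.totPre F n).IsSheaf := by
  rw [TopCat.Presheaf.isSheaf_iff_isSheafUniqueGluing]
  intro ι U sf hsf
  have cov : ∀ p, (Opens.map (A'.X p).hom).obj (iSup U) ≤ iSup fun i => (Opens.map (A'.X p).hom).obj (U i) :=
    fun p x hx => by
      obtain ⟨i, hi⟩ := Opens.mem_iSup.1 (hx : (A'.X p).hom x ∈ iSup U)
      exact Opens.mem_iSup.2 ⟨i, hi⟩
  have ex : ∀ k : DblCx16.Idx n, ∃! s : (C0Sh (Q F k.1.2) (A'.X k.1.1)).obj.obj (op ((Opens.map (A'.X k.1.1).hom).obj (iSup U))),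
      ∀ i, (C0Sh (Q F k.1.2) (A'.X k.1.1)).obj.map (homOfLE (fun x hx => le_iSup U i hx)).op s = sf i k := fun k =>
    TopCat.Sheaf.existsUnique_gluing' (C0Sh (Q F k.1.2) (A'.X k.1.1)) _ _ (fun i => homOfLE fun x hx => le_iSup U i hx)
      (cov k.1.1) (fun i => sf i k) fun i j => congrFun (hsf i j) k
  choose s hs hu using ex
  exact ⟨s, fun i => funext fun k => hs k i, fun t ht => funext fun k => hu k (t k) fun i => congrFun (ht i) k⟩

/-- The total groups as a sheaf on the base. -/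
noncomputable def Aug.totSh (n : ℤ) : CohTop.Ab S := ⟨A'.totPre F n, A'.isSheaf_totPre F n⟩

theorem Aug.totSh_isFlasque (n : ℤ) : TopCat.Sheaf.IsFlasque (A'.totSh F n) := isFlasque_mk _ fun U V h a => by
  have hk : ∀ k : DblCx16.Idx n, ∃ b, (C0Sh (Q F k.1.2) (A'.X k.1.1)).obj.map
      (homOfLE (fun x hx => h hx : (Opens.map (A'.X k.1.1).hom).obj V ≤ (Opens.map (A'.X k.1.1).hom).obj U)).op b = a k := fun k =>
    haveI := C0Sh_isFlasque (Q F k.1.2) (A'.X k.1.1)
    flasque_surjective (C0Sh (Q F k.1.2) (A'.X k.1.1)) (U := (Opens.map (A'.X k.1.1).hom).obj U)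
      (V := (Opens.map (A'.X k.1.1).hom).obj V) (fun x hx => h hx) (a k)
  choose b hb using hk
  exact ⟨b, funext hb⟩

/-- The total differential on sheaves. -/
noncomputable def Aug.totD (m n : ℤ) (e : m + 1 = n) : A'.totSh F m ⟶ A'.totSh F n :=
  ⟨{ app := fun V => AddCommGrpCat.ofHom (DblCx16.td (dbl F (A'.sys V.unop)) m n e)
     naturality := fun _ _ i => ConcreteCategory.hom_ext _ _ fun a =>
       ((A'.rdbl F (leOfHom i.unop)).tot_td m n e a).symm }⟩

/-- The total resolution of zero. -/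
noncomputable def Aug.zeroResol (hl : A'.LocExact F) {Z : CohTop.Ab S} (hZ : IsZero Z) : Resol Z where
  A q := A'.totSh F q
  flasque q := A'.totSh_isFlasque F q
  d q := A'.totD F q (q + 1 : ℕ) (by simp)
  d_d q := by
    refine ObjectProperty.hom_ext _ (NatTrans.ext (funext fun V => ConcreteCategory.hom_ext _ _ fun a => ?_))
    exact DblCx16.td_td _ _ _ _ _ _ a
  ε := 0
  ε_d := zero_comp
  ε_inj U a b _ := by
    have : 𝟙 Z = 0 := hZ.eq_of_src _ _
    exact (congrArg (fun φ : Z ⟶ Z => φ.hom.app (op U) a) this).trans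
      (congrArg (fun φ : Z ⟶ Z => φ.hom.app (op U) b) this).symm
  exact_zero U c hc y hy := by
    obtain ⟨W, hW, hyW, b, hb⟩ := hl y U hy ((0 : ℕ) : ℤ) c hc
    refine ⟨W, hW, hyW, 0, (map_zero _).trans ?_⟩
    have hb0 : b = 0 := funext fun k => absurd k.2 (by omega)
    rw [hb0, map_zero] at hb
    exact hb
  exact_succ q U c hc y hy := by
    obtain ⟨W, hW, hyW, b, hb⟩ := hl y U hy ((q + 1 : ℕ) : ℤ) c hc
    refine ⟨W, hW, hyW, fun k => b ⟨k.1, by have := k.2; push_cast; omega⟩, ?_⟩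
    refine Eq.trans ?_ hb
    funext k
    obtain ⟨⟨p, q'⟩, hk⟩ := k
    cases p <;> cases q' <;> rfl

theorem Aug.totExact_top (hl : A'.LocExact F) (n : ℤ) : DblCx16.TotExact (dbl F (A'.sys ⊤)) n := by
  intro a ha
  by_cases hn : n < 0
  · exact ⟨0, (map_zero _).trans (funext fun k => absurd k.2 (by omega))⟩
  obtain ⟨m, rfl⟩ := Int.eq_ofNat_of_zero_le (show 0 ≤ n by omega)
  obtain ⟨Z, hZ⟩ := (inferInstance : HasZeroObject (CohTop.Ab S)).zero
  cases m with
  | zero =>
    refine ⟨0, (map_zero _).trans ?_⟩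
    exact ((A'.zeroResol F hl hZ).eq_zero_of_isZero hZ ⊤ a ha).symm
  | succ m =>
    obtain ⟨b, hb⟩ := (A'.zeroResol F hl hZ).exists_d_of_isZero hZ ⊤ m a ha
    refine ⟨fun k => b ⟨k.1, by have := k.2; push_cast at this ⊢; omega⟩, Eq.trans ?_ hb⟩
    funext k
    obtain ⟨⟨p, q'⟩, hk⟩ := k
    cases p <;> cases q' <;> rfl

theorem nonempty_H_iso {X : TopCat.{u}} {G G' : CohTop.Ab X} (i : G ≅ G') (n : ℕ) :
    Nonempty (AddCommGrpCat.of (CohTop.H G n) ≅ AddCommGrpCat.of (CohTop.H G' n)) :=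
  ⟨AddEquiv.toAddCommGrpIso (((hExt G n).trans
    { toFun := mp i.hom n ⊤
      invFun := mp i.inv n ⊤
      left_inv := fun x => by rw [← mp_comp, i.hom_inv_id, mp_id]
      right_inv := fun x => by rw [← mp_comp, i.inv_hom_id, mp_id]
      map_add' := map_add _ }).trans (hExt G' n).symm)⟩

/-- Cohomological descent as a spectral sequence. -/
theorem Aug.exists_ss (h0 : A'.X 0 = Over.mk (𝟙 S)) (hl : A'.LocExact F) (E₁ : ℕ → ℕ → AddCommGrpCat.{u})
    (hE : ∀ p q, Nonempty (AddCommGrpCat.of (CohTop.H ((CohTop.pull (A'.X (p + 1)).hom).obj F) q) ≅ E₁ p q)) :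
    ∃ (E : CohomologicalSpectralSequence AddCommGrpCat.{u} 1)
      (a : SpSeq.Abutment E (fun n : ℤ =>
        if 0 ≤ n then AddCommGrpCat.of (CohTop.H F n.toNat) else AddCommGrpCat.of PUnit.{u + 1})),
      (∀ n, a.IsFinite n) ∧ SpSeq.IsBounded E ∧
      ∀ p q : ℤ, Nonempty ((E.page 1 le_rfl).X (p, q) ≅
        (if 0 ≤ p ∧ 0 ≤ q then E₁ p.toNat q.toNat else AddCommGrpCat.of PUnit.{u + 1})) := by
  let D := dbl F (A'.sys ⊤)
  have hpu : IsZero (AddCommGrpCat.of PUnit.{u + 1}) :=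
    (IsZero.iff_id_eq_zero _).2 (ConcreteCategory.hom_ext _ _ fun _ => rfl)
  have hcol : ∀ p q, Nonempty ((DblCx16.col D p).homology q ≅
      AddCommGrpCat.of (CohTop.H ((CohTop.pull (A'.X p).hom).obj F) q)) := fun p q => nonempty_cx_homology F (A'.X p) q
  refine DblCx16.exists_ss (DblCx16.shift D) _ (fun n => ?_)
    (fun p q => if 0 ≤ p ∧ 0 ≤ q then E₁ p.toNat q.toNat else AddCommGrpCat.of PUnit.{u + 1}) (fun p q => ?_)
    (fun p q h => by rw [if_neg (by omega)]; exact hpu)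
  · by_cases hn : 0 ≤ n
    · obtain ⟨m, rfl⟩ := Int.eq_ofNat_of_zero_le hn
      obtain ⟨e⟩ := DblCx16.nonempty_homology_col_iso D (A'.totExact_top F hl) m
      obtain ⟨e'⟩ := hcol 0 m
      have key : ∀ Y : Over S, Y = Over.mk (𝟙 S) → Nonempty
          (AddCommGrpCat.of (CohTop.H ((CohTop.pull Y.hom).obj F) m) ≅ AddCommGrpCat.of (CohTop.H F m)) := by
        rintro _ rfl
        exact nonempty_H_iso ((Adjunction.leftAdjointIdIso (CohTop16.pullAdj (𝟙 S)) (Iso.refl _)).app F) m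
      obtain ⟨e''⟩ := key _ h0
      exact ⟨e.symm ≪≫ e' ≪≫ e'' ≪≫ eqToIso (by simp)⟩
    · refine ⟨IsZero.iso ?_ (by rw [if_neg hn]; exact hpu)⟩
      refine ShortComplex.isZero_homology_of_isZero_X₂ _ ((IsZero.iff_id_eq_zero _).2
        (ConcreteCategory.hom_ext _ _ fun a => funext fun k => absurd k.2 (by omega)))
  · obtain ⟨e⟩ := hcol (p + 1) q
    obtain ⟨e'⟩ := hE p q
    exact ⟨(e : (DblCx16.col (DblCx16.shift D) p).homology q ≅ _) ≪≫ e' ≪≫ eqToIso (by simp)⟩

theorem Aug.locExact_of_contraction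
    (h : ∀ (s : S) (V : Opens S), s ∈ V → ∃ W : Opens S, W ≤ V ∧ s ∈ W ∧ Nonempty (Contraction (A'.sys W))) :
    A'.LocExact F := by
  intro s V hs n a ha
  obtain ⟨W, hW, hsW, ⟨c⟩⟩ := h s V hs
  obtain ⟨b, hb⟩ := totExact_of_contraction F c n ((A'.rdbl F hW).tot n a) (by
    rw [← DblCx16.Hom.tot_td, ha, map_zero])
  exact ⟨W, hW, hsW, b, hb⟩

end Groth.Agent.SimpGod16
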