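import Groth.Agent.Lib.SimpGod16.Descent
import Mathlib.CategoryTheory.Limits.Shapes.WidePullbacks
import Mathlib.Topology.Category.TopCat.Limits.Basic
import Mathlib.Topology.IsLocalHomeomorph

/-! The Čech augmented semi-simplicial space of a map, and contractions from sections. -/

universe u

open CategoryTheory TopologicalSpace Opposite CategoryTheory.Limits

set_option autoImplicit false
set_option linter.style.haveILetI false
set_option backward.isDefEq.respectTransparency false
set_option backward.isDefEq.respectTransparency.types false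

namespace Groth.Agent.SimpGod16

variable {S : TopCat.{u}} {X : TopCat.{u}} (f : X ⟶ S)

/-- The fibre powers, augmented. -/
noncomputable def cechX : ℕ → Over S
  | 0 => Over.mk (𝟙 S)
  | p + 1 => Over.mk (WidePullback.base (fun _ : Fin (p + 1) => f) :
      widePullback S (fun _ : Fin (p + 1) => X) (fun _ => f) ⟶ S)

/-- The faces. -/
noncomputable def cechδ : ∀ p, Fin (p + 1) → (cechX f (p + 1) ⟶ cechX f p)
  | 0, _ => Over.homMk (WidePullback.base (fun _ : Fin 1 => f)) (Category.comp_id _)
  | p + 1, i => Over.homMk (WidePullback.lift (WidePullback.base (fun _ : Fin (p + 1 + 1) => f))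
      (fun k : Fin (p + 1) => WidePullback.π (fun _ : Fin (p + 1 + 1) => f) (i.succAbove k)) fun k => WidePullback.π_arrow _ _)
      (WidePullback.lift_base ..)

theorem succAbove_comm {n : ℕ} (i j : Fin (n + 1)) (h : i ≤ j) (k : Fin n) :
    j.succ.succAbove (i.succAbove k) = i.castSucc.succAbove (j.succAbove k) := by
  rw [Fin.le_def] at h
  refine Fin.ext ?_
  simp only [Fin.succAbove, Fin.lt_def, Fin.val_castSucc, Fin.val_succ]
  split_ifs <;> simp only [Fin.val_castSucc, Fin.val_succ] at * <;> omega

/-- The augmented Čech object. -/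
noncomputable def cech : Aug S where
  X := cechX f
  δ := cechδ f
  δ_δ p i j h := by
    cases p with
    | zero =>
      obtain rfl : i = j := Fin.ext (by omega)
      refine Over.OverMorphism.ext ?_
      have h1 := Over.w (cechδ f 1 i.succ)
      have h2 := Over.w (cechδ f 1 i.castSucc)
      exact h1.trans h2.symm
    | succ p =>
      refine Over.OverMorphism.ext (WidePullback.hom_ext _ _ _ (fun k => ?_) ?_)
      · simp only [Over.comp_left, Category.assoc]
        show WidePullback.lift _ _ _ ≫ WidePullback.lift _ _ _ ≫ WidePullback.π _ k =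
          WidePullback.lift _ _ _ ≫ WidePullback.lift _ _ _ ≫ WidePullback.π _ k
        rw [WidePullback.lift_π, WidePullback.lift_π, WidePullback.lift_π, WidePullback.lift_π, succAbove_comm i j h k]
      · simp only [Over.comp_left, Category.assoc]
        show WidePullback.lift _ _ _ ≫ WidePullback.lift _ _ _ ≫ WidePullback.base _ =
          WidePullback.lift _ _ _ ≫ WidePullback.lift _ _ _ ≫ WidePullback.base _
        simp only [WidePullback.lift_base]

variable (A : Aug S) (T : Set S)

/-- The part over a subset of the base. -/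
def subObj (Y : Over S) : Over S :=
  Over.mk (TopCat.ofHom ⟨((↑) : {x : Y.left | Y.hom x ∈ T} → Y.left), continuous_subtype_val⟩ ≫ Y.hom)

/-- The induced map of parts over a subset. -/
def subMap {Y Y' : Over S} (g : Y ⟶ Y') : subObj T Y ⟶ subObj T Y' :=
  Over.homMk (TopCat.ofHom ⟨fun v => ⟨g.left v.1, show Y'.hom (g.left v.1) ∈ T from (ConcreteCategory.congr_hom (Over.w g) v.1).symm ▸ v.2⟩,
      (g.left.hom.continuous.comp continuous_subtype_val).subtype_mk _⟩)
    (ConcreteCategory.hom_ext _ _ fun v => ConcreteCategory.congr_hom (Over.w g) v.1)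

/-- A map of whole spaces. -/
def topMap {Y Y' : Over S} (g : Y ⟶ Y') : (⟨Y, ⊤⟩ : Sp S) ⟶ ⟨Y', ⊤⟩ :=
  mkHom (fun v => ⟨g.left v.1, trivial⟩) ((g.left.hom.continuous.comp continuous_subtype_val).subtype_mk _)
    fun v => ConcreteCategory.congr_hom (Over.w g) v.1

/-- The system over a subset of the base. -/
def Aug.subSys : Sys S where
  obj p := ⟨subObj T (A.X p), ⊤⟩
  δ p i := topMap (subMap T (A.δ p i))
  δ_δ p i j h := hom_ext _ _ fun v =>
    Subtype.ext (ConcreteCategory.congr_hom (congrArg CommaMorphism.left (A.δ_δ p i j h)) v.1.1)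

/-- Transport of a contraction along isomorphisms. -/
def Contraction.ofIso {B B' : Sys S} (e : ∀ p, B.obj p ≅ B'.obj p)
    (he : ∀ p i, (e (p + 1)).hom ≫ B'.δ p i = B.δ p i ≫ (e p).hom) (c : Contraction B') : Contraction B where
  s p := (e p).hom ≫ c.s p ≫ (e (p + 1)).inv
  s_δ₀ p := by
    have : (e (p + 1)).inv ≫ B.δ p 0 = B'.δ p 0 ≫ (e p).inv := by rw [Iso.inv_comp_eq, ← Category.assoc, he, Category.assoc, Iso.hom_inv_id, Category.comp_id]
    rw [Category.assoc, Category.assoc, this, ← Category.assoc (c.s p), c.s_δ₀, Category.id_comp, Iso.hom_inv_id]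
  s_δ p i := by
    have : (e (p + 1 + 1)).inv ≫ B.δ (p + 1) i.succ = B'.δ (p + 1) i.succ ≫ (e (p + 1)).inv := by
      rw [Iso.inv_comp_eq, ← Category.assoc, he, Category.assoc, Iso.hom_inv_id, Category.comp_id]
    rw [Category.assoc, Category.assoc, this, ← Category.assoc (c.s (p + 1)), c.s_δ, ← Category.assoc, ← Category.assoc, he]
    simp only [Category.assoc]

/-- The comparison between the two systems over an open. -/
def Aug.sysIso (W : Opens S) (p : ℕ) : (A.sys W).obj p ≅ (A.subSys (W : Set S)).obj p where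
  hom := mkHom (fun v => ⟨⟨v.1, v.2⟩, trivial⟩) ((continuous_subtype_val.subtype_mk _).subtype_mk _) fun _ => rfl
  inv := mkHom (fun v => ⟨v.1.1, v.1.2⟩) ((continuous_subtype_val.comp continuous_subtype_val).subtype_mk _) fun _ => rfl
  hom_inv_id := hom_ext _ _ fun _ => rfl
  inv_hom_id := hom_ext _ _ fun _ => rfl

theorem Aug.nonempty_contraction_sys (W : Opens S) (h : Nonempty (Contraction (A.subSys (W : Set S)))) :
    Nonempty (Contraction (A.sys W)) :=
  ⟨Contraction.ofIso (A.sysIso W) (fun _ _ => hom_ext _ _ fun _ => rfl) h.some⟩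

variable {T} (σ : T → X) (hσ : Continuous σ) (hfσ : ∀ t, f (σ t) = t.1)

/-- The extra degeneracy. -/
noncomputable def extraS : ∀ p, subObj T (cechX f p) ⟶ subObj T (cechX f (p + 1)) := fun p =>
  let b : (subObj T (cechX f p)).left ⟶ S := (subObj T (cechX f p)).hom
  let c : (subObj T (cechX f p)).left ⟶ X :=
    TopCat.ofHom ⟨fun v => σ ⟨b v, v.2⟩, hσ.comp (b.hom.continuous.subtype_mk _)⟩
  let comps : Fin (p + 1) → ((subObj T (cechX f p)).left ⟶ X) :=
    match p, b, c with
    | 0, _, c => fun _ => c
    | p + 1, _, c => Fin.cons c fun k => TopCat.ofHom ⟨Subtype.val, continuous_subtype_val⟩ ≫ WidePullback.π (fun _ : Fin (p + 1) => f) k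
  have hc : ∀ k, comps k ≫ f = b := by
    intro k
    cases p with
    | zero => exact ConcreteCategory.hom_ext _ _ fun v => hfσ _
    | succ p =>
      cases k using Fin.cases with
      | zero => exact ConcreteCategory.hom_ext _ _ fun v => hfσ _
      | succ k =>
        show (_ ≫ WidePullback.π (fun _ : Fin (p + 1) => f) k) ≫ f = _
        rw [Category.assoc, WidePullback.π_arrow]
        rfl
  let l : (subObj T (cechX f p)).left ⟶ widePullback S (fun _ : Fin (p + 1) => X) (fun _ => f) :=
    WidePullback.lift b comps hc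
  have hl : l ≫ WidePullback.base (fun _ : Fin (p + 1) => f) = b := WidePullback.lift_base ..
  Over.homMk (TopCat.ofHom ⟨fun v => ⟨l v, show (l ≫ WidePullback.base (fun _ : Fin (p + 1) => f)) v ∈ T by rw [hl]; exact v.2⟩,
      l.hom.continuous.subtype_mk _⟩) (ConcreteCategory.hom_ext _ _ fun v => ConcreteCategory.congr_hom hl v)

theorem extraS_π_zero (p : ℕ) (v : (subObj T (cechX f p)).left) :
    WidePullback.π (fun _ : Fin (p + 1) => f) 0 ((extraS f σ hσ hfσ p).left v).1 = σ ⟨(subObj T (cechX f p)).hom v, v.2⟩ := by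
  cases p <;> exact ConcreteCategory.congr_hom (WidePullback.lift_π ..) v

theorem extraS_π_succ (p : ℕ) (v : (subObj T (cechX f (p + 1))).left) (k : Fin (p + 1)) :
    WidePullback.π (fun _ : Fin (p + 1 + 1) => f) k.succ ((extraS f σ hσ hfσ (p + 1)).left v).1 =
      WidePullback.π (fun _ : Fin (p + 1) => f) k v.1 :=
  ConcreteCategory.congr_hom (WidePullback.lift_π ..) v

theorem cech_ext {p : ℕ} {v w : (cechX f (p + 1)).left}
    (hπ : ∀ k, WidePullback.π (fun _ : Fin (p + 1) => f) k v = WidePullback.π (fun _ : Fin (p + 1) => f) k w) : v = w :=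
  Concrete.widePullback_ext' (fun _ : Fin (p + 1) => f) v w hπ

theorem π_cechδ (p : ℕ) (i : Fin (p + 1 + 1)) (k : Fin (p + 1)) (x : (cechX f (p + 1 + 1)).left) :
    WidePullback.π (fun _ : Fin (p + 1) => f) k ((cechδ f (p + 1) i).left x) =
      WidePullback.π (fun _ : Fin (p + 1 + 1) => f) (i.succAbove k) x :=
  ConcreteCategory.congr_hom (WidePullback.lift_π ..) x

/-- A section over a subset contracts the Čech system over it. -/
noncomputable def contractionOfSection : Contraction ((cech f).subSys T) where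
  s p := topMap (extraS f σ hσ hfσ p)
  s_δ₀ p := hom_ext _ _ fun v => Subtype.ext (by
    show (cechδ f p 0).left ((extraS f σ hσ hfσ p).left v.1).1 = v.1.1
    cases p with
    | zero => exact ConcreteCategory.congr_hom (Over.w (extraS f σ hσ hfσ 0)) v.1
    | succ p =>
      refine cech_ext f fun k => ?_
      rw [π_cechδ, Fin.succAbove_zero]
      exact extraS_π_succ f σ hσ hfσ p v.1 k)
  s_δ p i := hom_ext _ _ fun v => Subtype.ext (by
    show (cechδ f (p + 1) i.succ).left ((extraS f σ hσ hfσ (p + 1)).left v.1).1 =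
      ((extraS f σ hσ hfσ p).left ((subMap T (cechδ f p i)).left v.1)).1
    refine cech_ext f fun k => ?_
    rw [π_cechδ]
    cases k using Fin.cases with
    | zero =>
      rw [Fin.succ_succAbove_zero, extraS_π_zero, extraS_π_zero]
      refine congrArg σ (Subtype.ext ?_)
      exact (ConcreteCategory.congr_hom (Over.w (subMap T (cechδ f p i))) v.1).symm
    | succ k =>
      cases p with
      | zero => exact k.elim0
      | succ p =>
        rw [Fin.succ_succAbove_succ, extraS_π_succ, extraS_π_succ]
        exact (π_cechδ f p i k v.1.1).symm)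

theorem locExact_of_local_sections (F : CohTop.Ab S)
    (h : ∀ (s : S) (V : Opens S), s ∈ V → ∃ (W : Opens S) (σ : W → X), W ≤ V ∧ s ∈ W ∧ Continuous σ ∧ ∀ t, f (σ t) = t.1) :
    (cech f).LocExact F :=
  (cech f).locExact_of_contraction F fun s V hs => by
    obtain ⟨W, σ, hW, hsW, hσ, hfσ⟩ := h s V hs
    exact ⟨W, hW, hsW, (cech f).nonempty_contraction_sys W ⟨contractionOfSection f σ hσ hfσ⟩⟩

theorem exists_local_section (hf : IsLocalHomeomorph f) (hsurj : Function.Surjective f) (s : S) (V : Opens S)
    (hs : s ∈ V) : ∃ (W : Opens S) (σ : W → X), W ≤ V ∧ s ∈ W ∧ Continuous σ ∧ ∀ t, f (σ t) = t.1 := by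
  obtain ⟨x, rfl⟩ := hsurj s
  obtain ⟨e, hx, he⟩ := hf x
  refine ⟨V ⊓ ⟨e.target, e.open_target⟩, fun t => e.symm t.1, inf_le_left, ⟨hs, ?_⟩, ?_, fun t => ?_⟩
  · exact he ▸ e.map_source hx
  · exact e.continuousOn_symm.comp_continuous continuous_subtype_val fun t => t.2.2
  · rw [he]; exact e.right_inv t.2.2

end Groth.Agent.SimpGod16
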