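import Groth.Agent.Lib.SimpGod16.Proper
import Mathlib.Topology.LocallyFinite

/-! Descent along a locally finite closed cover. -/

universe u

open CategoryTheory TopologicalSpace Opposite CategoryTheory.Limits

set_option autoImplicit false
set_option linter.style.haveILetI false
set_option backward.isDefEq.respectTransparency false
set_option backward.isDefEq.respectTransparency.types false

namespace Groth.Agent.SimpGod16

variable {S : TopCat.{u}}

/-- Homology turns jointly bijective families of maps into products. -/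
theorem nonempty_homology_iso_pi {ι : Type u} (K : ShortComplex AddCommGrpCat.{u}) (L : ι → ShortComplex AddCommGrpCat.{u})
    (φ : ∀ i, K ⟶ L i) (hb : Function.Bijective fun x i => (φ i).τ₂ x)
    (hs : ∀ y : ∀ i, (L i).X₁, ∃ x, ∀ i, (φ i).τ₁ x = y i)
    (hg : ∀ x : K.X₃, (∀ i, (φ i).τ₃ x = 0) → x = 0) :
    Nonempty (K.homology ≅ AddCommGrpCat.of (∀ i, (L i).homology)) := by
  let cl : ∀ i, K.g.hom.ker →+ (L i).g.hom.ker ⧸ (L i).abToCycles.range := fun i =>
    (QuotientAddGroup.mk' _).comp (((φ i).τ₂.hom.comp K.g.hom.ker.subtype).codRestrict _ fun x => by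
      show (L i).g ((φ i).τ₂ x.1) = 0
      exact (ConcreteCategory.congr_hom (φ i).comm₂₃ x.1).trans ((congrArg _ x.2).trans (map_zero (φ i).τ₃.hom)))
  let ψ : K.g.hom.ker →+ ∀ i, (L i).g.hom.ker ⧸ (L i).abToCycles.range := Pi.addMonoidHom cl
  have hψ : Function.Surjective ψ := fun z => by
    choose y hy using fun i => QuotientAddGroup.mk'_surjective _ (z i)
    obtain ⟨x, hx⟩ := hb.2 fun i => (y i).1
    refine ⟨⟨x, hg _ fun i => (ConcreteCategory.congr_hom (φ i).comm₂₃ x).symm.trans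
      ((congrArg (L i).g (congrFun hx i)).trans (y i).2)⟩, funext fun i => ?_⟩
    exact (congrArg (QuotientAddGroup.mk' _) (Subtype.ext (congrFun hx i))).trans (hy i)
  have hk : ψ.ker = K.abToCycles.range := by
    ext ⟨x, hx⟩
    constructor
    · intro h
      choose w hw using fun i => (QuotientAddGroup.eq_zero_iff _).1 (congrFun h i)
      obtain ⟨v, hv⟩ := hs w
      refine ⟨v, Subtype.ext (hb.1 (funext fun i => ?_))⟩
      exact (ConcreteCategory.congr_hom (φ i).comm₁₂ v).symm.trans ((congrArg (L i).f (hv i)).trans (congrArg Subtype.val (hw i)))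
    · rintro ⟨v, hv⟩
      refine funext fun i => (QuotientAddGroup.eq_zero_iff _).2 ⟨(φ i).τ₁ v, Subtype.ext ?_⟩
      exact (ConcreteCategory.congr_hom (φ i).comm₁₂ v).trans (congrArg (φ i).τ₂ (congrArg Subtype.val hv))
  exact ⟨K.abHomologyIso ≪≫ AddEquiv.toAddCommGrpIso (X := AddCommGrpCat.of _) (Y := AddCommGrpCat.of _)
    (((QuotientAddGroup.quotientAddEquivOfEq hk.symm).trans (QuotientAddGroup.quotientKerEquivOfSurjective ψ hψ)).trans
      (AddEquiv.piCongrRight fun i => (L i).abHomologyIso.addCommGroupIsoToAddEquiv.symm))⟩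

variable {ι : Type u} (F : CohTop.Ab S) {W : Over S} (Z : ι → Over S) (R : ι → Opens W.left)
  (e : ∀ i, (⟨Z i, ⊤⟩ : Sp S) ≅ ⟨W, R i⟩)

/-- Restriction to a piece. -/
noncomputable def pieceMap (i : ι) (q : ℕ) : (C F q).obj (op ⟨W, ⊤⟩) ⟶ (C F q).obj (op ⟨Z i, ⊤⟩) :=
  (C F q).map ((e i).hom ≫ incl W le_top).op

theorem bijective_pieces (hd : ∀ i j x, x ∈ R i → x ∈ R j → i = j) (hc : ∀ x, ∃ i, x ∈ R i) (q : ℕ) :
    Function.Bijective fun x i => pieceMap F Z R e i q x := by
  have hi : ∀ i, Function.Bijective ((C F q).map (e i).hom.op) := fun i =>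
    (ConcreteCategory.isIso_iff_bijective _).1 inferInstance
  choose k hk using fun x : W.left => hc x
  constructor
  · refine fun a b h => funext fun v => ?_
    have := congrFun ((hi (k v.1)).1 ((map_comp_apply _ _ _ a).symm.trans ((congrFun h (k v.1)).trans (map_comp_apply _ _ _ b)))) ⟨v.1, hk v.1⟩
    exact (C0_incl (Q F q) W le_top a ⟨v.1, hk v.1⟩).symm.trans (this.trans (C0_incl (Q F q) W le_top b ⟨v.1, hk v.1⟩))
  · intro y
    choose z hz using fun i => (hi i).2 (y i)
    refine ⟨fun v => z (k v.1) ⟨v.1, hk v.1⟩, funext fun i => ?_⟩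
    refine (map_comp_apply _ _ _ _).trans ((congrArg _ (funext fun v => ?_)).trans (hz i))
    obtain ⟨v, hv⟩ := v
    refine (C0_incl (Q F q) W le_top _ ⟨v, hv⟩).trans ?_
    have key : ∀ (j : ι) (hj : v ∈ R j), j = i → z j ⟨v, hj⟩ = z i ⟨v, hv⟩ := by rintro _ _ rfl; rfl
    exact key _ _ (hd _ _ v (hk v) hv)

/-- Restriction to a piece, on complexes. -/
noncomputable def pieceCx (i : ι) : cx F ⟨W, ⊤⟩ ⟶ cx F ⟨Z i, ⊤⟩ where
  f q := pieceMap F Z R e i q
  comm' q q' h := by
    change q + 1 = q' at h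
    subst h
    refine ConcreteCategory.hom_ext _ _ fun x => ?_
    show (cx F ⟨Z i, ⊤⟩).d q (q + 1) (pieceMap F Z R e i q x) = pieceMap F Z R e i (q + 1) ((cx F ⟨W, ⊤⟩).d q (q + 1) x)
    rw [cx_d, cx_d]
    exact NatTrans.naturality_apply (d F q) _ x

theorem nonempty_cx_homology_pi (hd : ∀ i j x, x ∈ R i → x ∈ R j → i = j) (hc : ∀ x, ∃ i, x ∈ R i) (q : ℕ)
    (e' : ∀ i, (⟨Z i, ⊤⟩ : Sp S) ≅ ⟨W, R i⟩) :
    Nonempty ((cx F ⟨W, ⊤⟩).homology q ≅ AddCommGrpCat.of (∀ i, (cx F ⟨Z i, ⊤⟩).homology q)) :=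
  nonempty_homology_iso_pi ((cx F ⟨W, ⊤⟩).sc q) (fun i => (cx F ⟨Z i, ⊤⟩).sc q)
    (fun i => (HomologicalComplex.shortComplexFunctor _ _ q).map (pieceCx F Z R e' i))
    (bijective_pieces F Z R e' hd hc q)
    (fun y => (bijective_pieces F Z R e' hd hc _).2 y |>.imp fun _ hx i => congrFun hx i)
    (fun x hx => (bijective_pieces F Z R e' hd hc _).1 (funext fun i => (hx i).trans (map_zero _).symm))

section Cover

variable {X : TopCat.{u}} {I : Type u} (U : I → Set X)

/-- The map from the disjoint union of the closed sets. -/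
def coverMap : TopCat.of (Σ i, U i) ⟶ X :=
  TopCat.ofHom ⟨fun p => p.2.1, continuous_sigma fun _ => continuous_subtype_val⟩

theorem isProperMap_coverMap (hU : ∀ i, IsClosed (U i)) (hlf : LocallyFinite U) : IsProperMap (coverMap U) := by
  refine isProperMap_iff_isClosedMap_and_compact_fibers.2 ⟨(coverMap U).hom.continuous, fun C hC => ?_, fun x => ?_⟩
  · have e : coverMap U '' C = ⋃ i, Subtype.val '' ((fun v : U i => (Sigma.mk i v : Σ i, U i)) ⁻¹' C) := by
      ext x
      constructor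
      · rintro ⟨⟨i, v⟩, hv, rfl⟩; exact Set.mem_iUnion.2 ⟨i, v, hv, rfl⟩
      · rintro h
        obtain ⟨i, v, hv, rfl⟩ := Set.mem_iUnion.1 h
        exact ⟨⟨i, v⟩, hv, rfl⟩
    rw [e]
    exact (hlf.subset fun i => Subtype.coe_image_subset _ _).isClosed_iUnion
      fun i => (hU i).isClosedMap_subtype_val _ (hC.preimage (continuous_sigmaMk (σ := fun i => U i) (i := i)))
  · refine Set.Finite.isCompact ?_
    refine Set.Finite.of_finite_image ((hlf.point_finite x).subset ?_) (f := fun p : Σ i, U i => p.1) ?_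
    · rintro _ ⟨⟨i, v⟩, hv, rfl⟩; exact (hv : v.1 = x) ▸ v.2
    · rintro ⟨i, v⟩ hv ⟨j, w⟩ hw (rfl : i = j)
      exact congrArg (Sigma.mk i) (Subtype.ext ((hv : v.1 = x).trans (hw : w.1 = x).symm))

theorem sep_coverMap (p p' : Σ i, U i) (h : coverMap U p = coverMap U p') (hne : p ≠ p') :
    ∃ A B : Set (Σ i, U i), IsOpen A ∧ IsOpen B ∧ p ∈ A ∧ p' ∈ B ∧ Disjoint A B := by
  obtain ⟨i, v⟩ := p
  obtain ⟨j, w⟩ := p'
  have hij : i ≠ j := fun e => by
    subst e
    exact hne (congrArg (Sigma.mk i) (Subtype.ext h))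
  refine ⟨Set.range (Sigma.mk i), Set.range (Sigma.mk j), isOpen_range_sigmaMk, isOpen_range_sigmaMk, ⟨v, rfl⟩, ⟨w, rfl⟩, ?_⟩
  exact Set.disjoint_left.2 fun a ⟨_, ha⟩ ⟨_, hb⟩ => hij ((congrArg Sigma.fst ha).trans (congrArg Sigma.fst hb).symm)

theorem surjective_coverMap (hcov : ⋃ i, U i = Set.univ) : Function.Surjective (coverMap U) := fun x => by
  obtain ⟨i, hi⟩ := Set.mem_iUnion.1 (hcov ▸ Set.mem_univ x : x ∈ ⋃ i, U i)
  exact ⟨⟨i, x, hi⟩, rfl⟩

variable {p : ℕ}

/-- A multiple intersection. -/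
def inter (σ : Fin (p + 1) → I) : Over X :=
  Over.mk (TopCat.ofHom ⟨((↑) : (⋂ k, U (σ k) : Set X) → X), continuous_subtype_val⟩ : TopCat.of (⋂ k, U (σ k) : Set X) ⟶ X)

/-- The piece of a fibre power. -/
def piece (σ : Fin (p + 1) → I) : Opens (cechX (coverMap U) (p + 1)).left where
  carrier := {w | ∀ k, (WidePullback.π (fun _ : Fin (p + 1) => coverMap U) k w).1 = σ k}
  is_open' := by
    have : {w : (cechX (coverMap U) (p + 1)).left | ∀ k, (WidePullback.π (fun _ : Fin (p + 1) => coverMap U) k w).1 = σ k} =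
        ⋂ k, (WidePullback.π (fun _ : Fin (p + 1) => coverMap U) k) ⁻¹' (Set.range (Sigma.mk (σ k))) := by
      ext w
      refine Iff.trans ?_ Set.mem_iInter.symm
      refine forall_congr' fun k => ?_
      constructor
      · intro h
        rcases e : WidePullback.π (fun _ : Fin (p + 1) => coverMap U) k w with ⟨i, v⟩
        rw [e] at h
        obtain rfl : i = σ k := h
        exact ⟨v, e.symm⟩
      · rintro ⟨v, hv⟩
        exact congrArg Sigma.fst hv.symm
    rw [this]
    exact isOpen_iInter_of_finite fun k =>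
      isOpen_range_sigmaMk.preimage (WidePullback.π (fun _ : Fin (p + 1) => coverMap U) k).hom.continuous

theorem piece_mem (σ : Fin (p + 1) → I) (w : piece U σ) (k : Fin (p + 1)) :
    (cechX (coverMap U) (p + 1)).hom w.1 ∈ U (σ k) := by
  have h := ConcreteCategory.congr_hom (WidePullback.π_arrow (fun _ : Fin (p + 1) => coverMap U) k) w.1
  show (WidePullback.base (fun _ : Fin (p + 1) => coverMap U)) w.1 ∈ U (σ k)
  rw [← h, ← w.2 k]
  exact (WidePullback.π (fun _ : Fin (p + 1) => coverMap U) k w.1).2.2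

/-- The inclusion of an intersection in the fibre power. -/
noncomputable def interLift (σ : Fin (p + 1) → I) :
    (inter U σ).left ⟶ widePullback X (fun _ : Fin (p + 1) => TopCat.of (Σ i, U i)) (fun _ => coverMap U) :=
  WidePullback.lift (inter U σ).hom
    (fun k => TopCat.ofHom ⟨fun x => ⟨σ k, x.1, Set.mem_iInter.1 x.2 k⟩,
      continuous_sigmaMk.comp (continuous_subtype_val.subtype_mk _)⟩) fun _ => rfl

theorem interLift_π (σ : Fin (p + 1) → I) (x : (inter U σ).left) (k : Fin (p + 1)) :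
    WidePullback.π (fun _ : Fin (p + 1) => coverMap U) k (interLift U σ x) = ⟨σ k, x.1, Set.mem_iInter.1 x.2 k⟩ := by
  have h : interLift U σ ≫ WidePullback.π (fun _ : Fin (p + 1) => coverMap U) k =
      TopCat.ofHom ⟨fun x => ⟨σ k, x.1, Set.mem_iInter.1 x.2 k⟩,
        continuous_sigmaMk.comp (continuous_subtype_val.subtype_mk _)⟩ := WidePullback.lift_π _ _ _ _ _
  exact ConcreteCategory.congr_hom h x

theorem interLift_base (σ : Fin (p + 1) → I) (x : (inter U σ).left) :
    (cechX (coverMap U) (p + 1)).hom (interLift U σ x) = x.1 := by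
  have h : interLift U σ ≫ WidePullback.base (fun _ : Fin (p + 1) => coverMap U) = (inter U σ).hom := WidePullback.lift_base _ _ _ _
  exact ConcreteCategory.congr_hom h x

/-- An intersection is a piece of the fibre power. -/
noncomputable def pieceIso (σ : Fin (p + 1) → I) : (⟨inter U σ, ⊤⟩ : Sp X) ≅ ⟨cechX (coverMap U) (p + 1), piece U σ⟩ where
  hom := mkHom (fun v => ⟨interLift U σ v.1, fun k => congrArg Sigma.fst (interLift_π U σ v.1 k)⟩)
    (((interLift U σ).hom.continuous.comp continuous_subtype_val).subtype_mk _) fun v => interLift_base U σ v.1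
  inv := mkHom (fun w => ⟨⟨(cechX (coverMap U) (p + 1)).hom w.1, Set.mem_iInter.2 (piece_mem U σ w)⟩, trivial⟩)
    ((((cechX (coverMap U) (p + 1)).hom.hom.continuous.comp continuous_subtype_val).subtype_mk _).subtype_mk _) fun w => rfl
  hom_inv_id := hom_ext _ _ fun v => Subtype.ext (interLift_base U σ v.1)
  inv_hom_id := hom_ext _ _ fun w => cech_ext (coverMap U) fun k => by
    refine (interLift_π U σ _ k).trans ?_
    have h := w.2 k
    rcases e : WidePullback.π (fun _ : Fin (p + 1) => coverMap U) k w.1 with ⟨i, v⟩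
    rw [e] at h
    obtain rfl : i = σ k := h
    refine (congrArg (Sigma.mk (σ k)) (Subtype.ext ?_)).trans e.symm
    exact (ConcreteCategory.congr_hom (WidePullback.π_arrow (fun _ : Fin (p + 1) => coverMap U) k) w.1).symm.trans
      (congrArg (coverMap U) e)

theorem nonempty_E₁_iso (F : CohTop.Ab X) (p q : ℕ) :
    Nonempty (AddCommGrpCat.of (CohTop.H ((CohTop.pull (cechX (coverMap U) (p + 1)).hom).obj F) q) ≅
      AddCommGrpCat.of (∀ σ : Fin (p + 1) → I, CohTop.H ((CohTop.pull
        (TopCat.ofHom ⟨((↑) : (⋂ k, U (σ k) : Set X) → X), continuous_subtype_val⟩ :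
          TopCat.of (⋂ k, U (σ k) : Set X) ⟶ X)).obj F) q)) := by
  obtain ⟨e₁⟩ := nonempty_cx_homology F (cechX (coverMap U) (p + 1)) q
  obtain ⟨e₂⟩ := nonempty_cx_homology_pi F (fun σ : Fin (p + 1) → I => inter U σ) (piece U)
    (fun σ τ w hσ hτ => funext fun k => (hσ k).symm.trans (hτ k))
    (fun w => ⟨fun k => (WidePullback.π (fun _ : Fin (p + 1) => coverMap U) k w).1, fun k => rfl⟩) q
    (fun σ => pieceIso U σ)
  let e₃ := fun σ : Fin (p + 1) → I => (nonempty_cx_homology F (inter U σ) q).some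
  exact ⟨e₁.symm ≪≫ e₂ ≪≫ AddEquiv.toAddCommGrpIso (X := AddCommGrpCat.of _) (Y := AddCommGrpCat.of _)
    (AddEquiv.piCongrRight fun σ => (e₃ σ).addCommGroupIsoToAddEquiv)⟩

theorem cech_X (n : ℕ) : (cech (coverMap U)).X n = cechX (coverMap U) n := rfl

/-- The descent spectral sequence of a locally finite closed cover. -/
theorem exists_ss_closedCover (hU : ∀ i, IsClosed (U i)) (hlf : LocallyFinite U) (hcov : ⋃ i, U i = Set.univ)
    (F : CohTop.Ab X) :
    ∃ (E : CohomologicalSpectralSequence AddCommGrpCat.{u} 1)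
      (a : SpSeq.Abutment E (fun n : ℤ =>
        if 0 ≤ n then AddCommGrpCat.of (CohTop.H F n.toNat) else AddCommGrpCat.of PUnit.{u + 1})),
      (∀ n, a.IsFinite n) ∧ SpSeq.IsBounded E ∧
      ∀ p q : ℤ, Nonempty ((E.page 1 le_rfl).X (p, q) ≅
        (if 0 ≤ p ∧ 0 ≤ q then
          AddCommGrpCat.of (∀ σ : Fin (p.toNat + 1) → I,
            CohTop.H ((CohTop.pull (TopCat.ofHom ⟨((↑) : (⋂ k, U (σ k) : Set X) → X), continuous_subtype_val⟩ :
              TopCat.of (⋂ k, U (σ k) : Set X) ⟶ X)).obj F) q.toNat)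
         else AddCommGrpCat.of PUnit.{u + 1})) := by
  let E₁ : ℕ → ℕ → AddCommGrpCat.{u} := fun p q => AddCommGrpCat.of (∀ σ : Fin (p + 1) → I,
    CohTop.H ((CohTop.pull (TopCat.ofHom ⟨((↑) : (⋂ k, U (σ k) : Set X) → X), continuous_subtype_val⟩ :
      TopCat.of (⋂ k, U (σ k) : Set X) ⟶ X)).obj F) q)
  have hE : ∀ p q, Nonempty (AddCommGrpCat.of (CohTop.H ((CohTop.pull ((cech (coverMap U)).X (p + 1)).hom).obj F) q) ≅ E₁ p q) := by
    intro p q
    rw! [cech_X]
    exact nonempty_E₁_iso U F p q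
  exact (cech (coverMap U)).exists_ss F rfl
    (locExact_of_proper _ (isProperMap_coverMap U hU hlf) (sep_coverMap U) (surjective_coverMap U hcov) F) E₁ hE

end Cover

end Groth.Agent.SimpGod16
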