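import Groth.Agent.Lib.SheafVan16.PullSec
import Groth.Agent.Lib.SheafVan16.Hausdorff

/-! Complexes of flasque sheaves that are exact near each point of a compact separated set. -/

universe u

open CategoryTheory TopologicalSpace Opposite CategoryTheory.Limits

set_option autoImplicit false
set_option linter.style.haveILetI false
set_option backward.isDefEq.respectTransparency false
set_option backward.isDefEq.respectTransparency.types false

namespace Groth.Agent.SimpGod16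

open Groth.Agent.CohFound Groth.Agent.GodTot16 Groth.Agent.SheafVan16

variable {Y : TopCat.{u}}

/-- A complex of flasque sheaves. -/
structure FlCx (Y : TopCat.{u}) : Type (u + 1) where
  A : ℕ → CohTop.Ab Y
  flasque : ∀ q, TopCat.Sheaf.IsFlasque (A q)
  d : ∀ q, A q ⟶ A (q + 1)
  d_d : ∀ q, d q ≫ d (q + 1) = 0

variable (R : FlCx Y)

/-- Exactness near the points of a set. -/
structure FlCx.ExactAt (K : Set Y) : Prop where
  zero : ∀ (U : Opens Y) (c : (R.A 0).obj.obj (op U)), (R.d 0).hom.app (op U) c = 0 → ∀ y ∈ K, y ∈ U →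
    ∃ (V : Opens Y) (hV : V ≤ U), y ∈ V ∧ (R.A 0).obj.map (homOfLE hV).op c = 0
  succ : ∀ (q : ℕ) (U : Opens Y) (c : (R.A (q + 1)).obj.obj (op U)), (R.d (q + 1)).hom.app (op U) c = 0 → ∀ y ∈ K, y ∈ U →
    ∃ (V : Opens Y) (hV : V ≤ U), y ∈ V ∧ ∃ b, (R.d q).hom.app (op V) b = (R.A (q + 1)).obj.map (homOfLE hV).op c

/-- Differentials commute with restrictions. -/
theorem app_map {G H : CohTop.Ab Y} (φ : G ⟶ H) {U V : Opens Y} (h : V ≤ U) (x : G.obj.obj (op U)) :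
    φ.hom.app (op V) (G.obj.map (homOfLE h).op x) = H.obj.map (homOfLE h).op (φ.hom.app (op U) x) :=
  NatTrans.naturality_apply φ.hom (homOfLE h).op x

theorem map_map {G : CohTop.Ab Y} {U V W : Opens Y} (h : V ≤ U) (h' : W ≤ V) (x : G.obj.obj (op U)) :
    G.obj.map (homOfLE h').op (G.obj.map (homOfLE h).op x) = G.obj.map (homOfLE (h'.trans h)).op x := by
  rw [← homOfLE_comp h' h, op_comp, Functor.map_comp]
  rfl

theorem map_refl {G : CohTop.Ab Y} {U : Opens Y} (x : G.obj.obj (op U)) :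
    G.obj.map (homOfLE (le_refl U)).op x = x := by
  rw [Subsingleton.elim (homOfLE (le_refl U)) (𝟙 U), op_id, CategoryTheory.Functor.map_id]
  rfl

theorem FlCx.exists_zero_near {K : Set Y} (hR : R.ExactAt K) {U : Opens Y} (hKU : K ⊆ U)
    (c : (R.A 0).obj.obj (op U)) (hc : (R.d 0).hom.app (op U) c = 0) :
    ∃ (O : Opens Y) (hO : O ≤ U), K ⊆ O ∧ (R.A 0).obj.map (homOfLE hO).op c = 0 := by
  obtain ⟨A, hA, hA'⟩ := exists_open_eq (G := R.A 0) (U := U) (V := U) c 0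
  refine ⟨A, hA.trans inf_le_left, fun y hy => ?_, TopCat.Presheaf.section_ext (R.A 0) _ _ _ fun y hy => ?_⟩
  · obtain ⟨V, hV, hyV, e⟩ := hR.zero U c hc y hy (hKU hy)
    refine (hA' y).2 ⟨hKU hy, hKU hy, ?_⟩
    exact ((germ_map hV y hyV c).symm.trans ((congrArg (germ (R.A 0) y hyV) e).trans (map_zero _))).trans (map_zero _).symm
  · obtain ⟨h1, h2, e⟩ := (hA' y).1 hy
    exact (germ_map (hA.trans inf_le_left) y hy c).trans (e.trans ((map_zero _).trans (map_zero _).symm))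

theorem FlCx.boundary_near_step (Ks : Set Y) (hR : R.ExactAt Ks)
    (hsep : ∀ z ∈ Ks, ∀ z' ∈ Ks, z ≠ z' → ∃ U V : Set Y, IsOpen U ∧ IsOpen V ∧ z ∈ U ∧ z' ∈ V ∧ Disjoint U V)
    (q : ℕ) (K : Set Y) (hK : IsCompact K) (hKs : K ⊆ Ks) (U : Opens Y) (hKU : K ⊆ U)
      (c : (R.A (q + 1)).obj.obj (op U)) (hc : (R.d (q + 1)).hom.app (op U) c = 0)
      (ext : ∀ (L : Set Y), IsCompact L → L ⊆ Ks → ∀ (W : Opens Y), L ⊆ W → ∀ e : (R.A q).obj.obj (op W),
        (R.d q).hom.app (op W) e = 0 → ∃ (O : Opens Y) (hO : O ≤ W) (g : (R.A q).obj.obj (op ⊤)), L ⊆ O ∧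
          (R.A q).obj.map (homOfLE hO).op e = (R.A q).obj.map (homOfLE le_top).op g ∧ (R.d q).hom.app (op ⊤) g = 0) :
      ∃ (O : Opens Y) (hO : O ≤ U) (b : (R.A q).obj.obj (op O)), K ⊆ O ∧
        (R.d q).hom.app (op O) b = (R.A (q + 1)).obj.map (homOfLE hO).op c := by
  have union : ∀ (K₁ K₂ : Set Y), IsCompact K₁ → IsCompact K₂ → K₁ ⊆ Ks → K₂ ⊆ Ks →
      ∀ (O₁ : Opens Y) (h₁ : O₁ ≤ U) (b₁ : (R.A q).obj.obj (op O₁)), K₁ ⊆ O₁ →
        (R.d q).hom.app (op O₁) b₁ = (R.A (q + 1)).obj.map (homOfLE h₁).op c →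
      ∀ (O₂ : Opens Y) (h₂ : O₂ ≤ U) (b₂ : (R.A q).obj.obj (op O₂)), K₂ ⊆ O₂ →
        (R.d q).hom.app (op O₂) b₂ = (R.A (q + 1)).obj.map (homOfLE h₂).op c →
      ∃ (O : Opens Y) (hO : O ≤ U) (b : (R.A q).obj.obj (op O)), K₁ ∪ K₂ ⊆ O ∧
        (R.d q).hom.app (op O) b = (R.A (q + 1)).obj.map (homOfLE hO).op c := by
    intro K₁ K₂ hK₁ hK₂ hs₁ hs₂ O₁ h₁ b₁ hO₁ hb₁ O₂ h₂ b₂ hO₂ hb₂
    have hL : IsCompact (K₁ ∩ K₂) := by
      haveI : CompactSpace K₁ := isCompact_iff_compactSpace.1 hK₁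
      haveI : T2Space (K₁ ∪ K₂ : Set Y) := ⟨fun a b hne => by
        obtain ⟨A, B, hA, hB, ha, hb, hd⟩ := hsep a.1 (Set.union_subset hs₁ hs₂ a.2) b.1 (Set.union_subset hs₁ hs₂ b.2)
          fun e => hne (Subtype.ext e)
        exact ⟨Subtype.val ⁻¹' A, Subtype.val ⁻¹' B, hA.preimage continuous_subtype_val,
          hB.preimage continuous_subtype_val, ha, hb, hd.preimage _⟩⟩
      have c₁ : IsCompact (Subtype.val ⁻¹' K₁ : Set (K₁ ∪ K₂ : Set Y)) :=
        Topology.IsInducing.subtypeVal.isCompact_preimage' hK₁ (by rw [Subtype.range_coe]; exact Set.subset_union_left)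
      have c₂ : IsCompact (Subtype.val ⁻¹' K₂ : Set (K₁ ∪ K₂ : Set Y)) :=
        Topology.IsInducing.subtypeVal.isCompact_preimage' hK₂ (by rw [Subtype.range_coe]; exact Set.subset_union_right)
      have := ((c₁.inter_right c₂.isClosed).image continuous_subtype_val)
      convert this using 1
      ext y
      constructor
      · exact fun h => ⟨⟨y, Or.inl h.1⟩, ⟨h.1, h.2⟩, rfl⟩
      · rintro ⟨z, hz, rfl⟩; exact hz
    let e : (R.A q).obj.obj (op (O₁ ⊓ O₂)) :=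
      (R.A q).obj.map (homOfLE inf_le_left).op b₁ - (R.A q).obj.map (homOfLE inf_le_right).op b₂
    have he : (R.d q).hom.app (op (O₁ ⊓ O₂)) e = 0 := by
      refine (map_sub _ _ _).trans ?_
      rw [app_map, app_map, hb₁, hb₂, map_map, map_map, sub_self]
    obtain ⟨O₃, hO₃, g, hL₃, heg, hg⟩ := ext (K₁ ∩ K₂) hL (Set.inter_subset_left.trans hs₁) (O₁ ⊓ O₂)
      (fun y hy => ⟨hO₁ hy.1, hO₂ hy.2⟩) e he
    let b₂' := b₂ + (R.A q).obj.map (homOfLE le_top).op g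
    have hb₂' : (R.d q).hom.app (op O₂) b₂' = (R.A (q + 1)).obj.map (homOfLE h₂).op c := by
      refine (map_add _ _ _).trans ?_
      rw [app_map, hg, map_zero, add_zero, hb₂]
    have heq : (R.A q).obj.map (homOfLE (hO₃.trans inf_le_left)).op b₁ =
        (R.A q).obj.map (homOfLE (hO₃.trans inf_le_right)).op b₂' := by
      rw [map_sub, map_map, map_map, sub_eq_iff_eq_add'] at heg
      rw [map_add, map_map, heg]
    obtain ⟨V₁, V₂, hV₁, hV₂, hC1, hC2, hd⟩ := separatedNhds_of_pairwise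
      (hK₁.diff O₃.isOpen) (hK₂.diff O₃.isOpen) fun x hx y hy =>
        hsep x (hs₁ hx.1) y (hs₂ hy.1) fun e => hx.2 (hL₃ ⟨hx.1, e ▸ hy.1⟩)
    let P₁ : Opens Y := O₁ ⊓ (⟨V₁, hV₁⟩ ⊔ O₃)
    let P₂ : Opens Y := O₂ ⊓ (⟨V₂, hV₂⟩ ⊔ O₃)
    have hP : P₁ ⊓ P₂ ≤ O₃ := fun x hx => by
      rcases hx.1.2 with a | a
      · rcases hx.2.2 with b | b
        · exact absurd ⟨a, b⟩ fun e => Set.disjoint_iff.1 hd e
        · exact b
      · exact a
    obtain ⟨b, hbl, hbr⟩ := exists_glue₂ (F := R.A q) ((R.A q).obj.map (homOfLE (inf_le_left : P₁ ≤ O₁)).op b₁)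
      ((R.A q).obj.map (homOfLE (inf_le_left : P₂ ≤ O₂)).op b₂') (by
        rw [map_map, map_map, ← map_map (hO₃.trans inf_le_left) hP b₁, ← map_map (hO₃.trans inf_le_right) hP b₂', heq])
    have hOU : P₁ ⊔ P₂ ≤ U := sup_le (inf_le_left.trans h₁) (inf_le_left.trans h₂)
    refine ⟨P₁ ⊔ P₂, hOU, b, fun y hy => ?_, TopCat.Presheaf.section_ext (R.A (q + 1)) _ _ _ fun y hy => ?_⟩
    · rcases hy with hy | hy
      · exact Or.inl ⟨hO₁ hy, (Classical.em (y ∈ O₃)).elim Or.inr fun h => Or.inl (hC1 ⟨hy, h⟩)⟩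
      · exact Or.inr ⟨hO₂ hy, (Classical.em (y ∈ O₃)).elim Or.inr fun h => Or.inl (hC2 ⟨hy, h⟩)⟩
    · rcases hy with hy | hy
      · refine ((germ_map (le_sup_left : P₁ ≤ P₁ ⊔ P₂) y hy _).symm.trans ?_).trans (germ_map (le_sup_left : P₁ ≤ P₁ ⊔ P₂) y hy _)
        refine congrArg (germ (R.A (q + 1)) y hy) ?_
        rw [← app_map, hbl, app_map, hb₁, map_map, map_map]
      · refine ((germ_map (le_sup_right : P₂ ≤ P₁ ⊔ P₂) y hy _).symm.trans ?_).trans (germ_map (le_sup_right : P₂ ≤ P₁ ⊔ P₂) y hy _)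
        refine congrArg (germ (R.A (q + 1)) y hy) ?_
        rw [← app_map, hbr, app_map, hb₂', map_map, map_map]
  haveI : CompactSpace K := isCompact_iff_compactSpace.1 hK
  haveI : T2Space K := ⟨fun a b hne => by
    obtain ⟨A, B, hA, hB, ha, hb, hd⟩ := hsep a.1 (hKs a.2) b.1 (hKs b.2) fun e => hne (Subtype.ext e)
    exact ⟨Subtype.val ⁻¹' A, Subtype.val ⁻¹' B, hA.preimage continuous_subtype_val,
      hB.preimage continuous_subtype_val, ha, hb, hd.preimage _⟩⟩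
  choose N hNU hzN b hb using fun z : K => hR.succ q U c hc z.1 (hKs z.2) (hKU z.2)
  choose C hCz hCc hCN using fun z : K =>
    exists_mem_nhds_isClosed_subset (((N z).isOpen.preimage continuous_subtype_val).mem_nhds (x := z) (hzN z))
  obtain ⟨T, hT⟩ := isCompact_univ.elim_finite_subcover (fun z : K => interior (C z)) (fun z => isOpen_interior)
    fun z _ => Set.mem_iUnion.2 ⟨z, mem_interior_iff_mem_nhds.2 (hCz z)⟩
  have key : ∀ T : Finset K, ∃ (O : Opens Y) (hO : O ≤ U) (b : (R.A q).obj.obj (op O)),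
      (⋃ z ∈ T, Subtype.val '' C z) ⊆ O ∧ (R.d q).hom.app (op O) b = (R.A (q + 1)).obj.map (homOfLE hO).op c := by
    classical
    intro T
    induction T using Finset.induction_on with
    | empty =>
      refine ⟨⊥, bot_le, 0, by simp, TopCat.Presheaf.section_ext (R.A (q + 1)) _ _ _ fun y hy => hy.elim⟩
    | insert a T _ ih =>
      obtain ⟨O', hO', b', hT', hb'⟩ := ih
      have hC : Subtype.val '' C a ⊆ (N a : Set Y) := by rintro _ ⟨z, hz, rfl⟩; exact hCN a hz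
      obtain ⟨O, hO, b'', hsub, hb''⟩ := union _ _ ((hCc a).isCompact.image continuous_subtype_val)
        (T.finite_toSet.isCompact_biUnion fun z _ => (hCc z).isCompact.image continuous_subtype_val)
        (by rintro _ ⟨z, -, rfl⟩; exact hKs z.2) (Set.iUnion₂_subset fun z _ => by rintro _ ⟨w, -, rfl⟩; exact hKs w.2)
        (N a) (hNU a) (b a) hC (hb a) O' hO' b' hT' hb'
      exact ⟨O, hO, b'', by rw [Finset.set_biUnion_insert]; exact hsub, hb''⟩
  obtain ⟨O, hO, b', hsub, hb'⟩ := key T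
  refine ⟨O, hO, b', fun z hz => hsub ?_, hb'⟩
  obtain ⟨w, hwT, hw⟩ := Set.mem_iUnion₂.1 (hT (Set.mem_univ (⟨z, hz⟩ : K)))
  exact Set.mem_iUnion₂.2 ⟨w, hwT, ⟨z, hz⟩, interior_subset hw, rfl⟩

theorem FlCx.exists_boundary_near (Ks : Set Y) (hR : R.ExactAt Ks)
    (hsep : ∀ z ∈ Ks, ∀ z' ∈ Ks, z ≠ z' → ∃ U V : Set Y, IsOpen U ∧ IsOpen V ∧ z ∈ U ∧ z' ∈ V ∧ Disjoint U V) :
    ∀ (q : ℕ) (K : Set Y), IsCompact K → K ⊆ Ks → ∀ (U : Opens Y), K ⊆ U → ∀ c : (R.A (q + 1)).obj.obj (op U),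
      (R.d (q + 1)).hom.app (op U) c = 0 →
      ∃ (O : Opens Y) (hO : O ≤ U) (b : (R.A q).obj.obj (op O)), K ⊆ O ∧
        (R.d q).hom.app (op O) b = (R.A (q + 1)).obj.map (homOfLE hO).op c := by
  intro q
  induction q with
  | zero => 
    intro K hK hKs U hKU c hc
    refine R.boundary_near_step Ks hR hsep 0 K hK hKs U hKU c hc fun L hL hLs W hLW e he => ?_
    obtain ⟨O, hO, hLO, h0⟩ := R.exists_zero_near (K := L)
      ⟨fun U c hc y hy hyU => hR.zero U c hc y (hLs hy) hyU, fun q U c hc y hy hyU => hR.succ q U c hc y (hLs hy) hyU⟩ hLW e he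
    exact ⟨O, hO, 0, hLO, h0.trans (map_zero _).symm, map_zero _⟩
  | succ q ih => 
    intro K hK hKs U hKU c hc
    refine R.boundary_near_step Ks hR hsep (q + 1) K hK hKs U hKU c hc fun L hL hLs W hLW e he => ?_
    obtain ⟨O, hO, b, hLO, hb⟩ := ih L hL hLs W hLW e he
    haveI := R.flasque q
    obtain ⟨b', rfl⟩ := flasque_surjective (R.A q) (le_top : O ≤ ⊤) b
    refine ⟨O, hO, (R.d q).hom.app (op ⊤) b', hLO, (hb.symm.trans (app_map (R.d q) le_top b')), ?_⟩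
    exact congrArg (fun φ : R.A q ⟶ R.A (q + 1 + 1) => φ.hom.app (op ⊤) b') (R.d_d q)

end Groth.Agent.SimpGod16
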