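import Groth.Agent.Lib.SimpGod16.Cech
import Groth.Agent.Lib.SimpGod16.Compact

/-! Local exactness on the base from the fibres: the proper case. -/

universe u

open CategoryTheory TopologicalSpace Opposite CategoryTheory.Limits

set_option autoImplicit false
set_option linter.style.haveILetI false
set_option backward.isDefEq.respectTransparency false
set_option backward.isDefEq.respectTransparency.types false

namespace Groth.Agent.SimpGod16

open Groth.Agent.CohFound Groth.Agent.GodTot16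

variable {S : TopCat.{u}} (F : CohTop.Ab S) (s : S) (Y : Over S)

/-- The fibre. -/
abbrev fib : Over S := subObj ({s} : Set S) Y

/-- The inclusion of the fibre. -/
def fibι : (fib s Y).left ⟶ Y.left := TopCat.ofHom ⟨Subtype.val, continuous_subtype_val⟩

/-- The trace of an open on the fibre, as a morphism. -/
def fibHom (U : Opens Y.left) : (⟨fib s Y, (Opens.map (fibι s Y)).obj U⟩ : Sp S) ⟶ ⟨Y, U⟩ :=
  mkHom (fun v => ⟨v.1.1, v.2⟩) ((continuous_subtype_val.comp continuous_subtype_val).subtype_mk _) fun _ => rfl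

theorem fibHom_natural (G : (Sp S)ᵒᵖ ⥤ AddCommGrpCat.{u}) {U V : Opens Y.left} (h : V ≤ U) (x : G.obj (op ⟨Y, U⟩)) :
    G.map (incl (fib s Y) (fun _ hv => h hv : (Opens.map (fibι s Y)).obj V ≤ (Opens.map (fibι s Y)).obj U)).op
        (G.map (fibHom s Y U).op x) = G.map (fibHom s Y V).op (G.map (incl Y h).op x) := by
  rw [← map_comp_apply, ← map_comp_apply]
  exact congrArg (fun f => G.map (Quiver.Hom.op f) x) (hom_ext _ _ fun _ => rfl)

/-- The fibre terms, pushed forward. -/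
noncomputable abbrev fibSh (q : ℕ) : CohTop.Ab Y.left := (CohTop.push (fibι s Y)).obj (C0Sh (Q F q) (fib s Y))

theorem fibSh_isFlasque (q : ℕ) : TopCat.Sheaf.IsFlasque (fibSh F s Y q) := isFlasque_mk _ fun U V h x => by
  haveI := C0Sh_isFlasque (Q F q) (fib s Y)
  exact flasque_surjective (C0Sh (Q F q) (fib s Y)) (U := (Opens.map (fibι s Y)).obj U)
    (V := (Opens.map (fibι s Y)).obj V) (fun z hz => h hz) x

/-- Restriction to the fibre. -/
noncomputable def fibRes (q : ℕ) : C0Sh (Q F q) Y ⟶ fibSh F s Y q :=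
  ⟨{ app := fun U => (C F q).map (fibHom s Y U.unop).op
     naturality := fun U V i => ConcreteCategory.hom_ext _ _ fun x =>
       (fibHom_natural s Y (C F q) (leOfHom i.unop) x).symm }⟩

/-- The differential on the fibre. -/
noncomputable def fibD (q : ℕ) : fibSh F s Y q ⟶ fibSh F s Y (q + 1) := (CohTop.push (fibι s Y)).map ((resol F (fib s Y)).d q)

theorem fibD_app (q : ℕ) (U : Opens Y.left) (x : (C F q).obj (op ⟨fib s Y, (Opens.map (fibι s Y)).obj U⟩)) :
    (fibD F s Y q).hom.app (op U) x = (d F q).app (op ⟨fib s Y, (Opens.map (fibι s Y)).obj U⟩) x := rfl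

theorem fibRes_d (q : ℕ) : fibRes F s Y q ≫ fibD F s Y q = (resol F Y).d q ≫ fibRes F s Y (q + 1) :=
  ObjectProperty.hom_ext _ (NatTrans.ext (funext fun U => ConcreteCategory.hom_ext _ _ fun x =>
    NatTrans.naturality_apply (d F q) (fibHom s Y U.unop).op x))

theorem fibD_fibD (q : ℕ) : fibD F s Y q ≫ fibD F s Y (q + 1) = 0 :=
  ObjectProperty.hom_ext _ (NatTrans.ext (funext fun U => ConcreteCategory.hom_ext _ _ fun x =>
    congrArg (fun φ : C F q ⟶ C F (q + 1 + 1) => φ.app (op ⟨fib s Y, (Opens.map (fibι s Y)).obj U.unop⟩) x) (d_d F q)))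

/-- The terms of the relative complex. -/
noncomputable def relA : ℕ → CohTop.Ab Y.left
  | 0 => C0Sh (Q F 0) Y
  | q + 1 => fibSh F s Y q ⊞ C0Sh (Q F (q + 1)) Y

/-- The differential of the relative complex. -/
noncomputable def relD : ∀ q, relA F s Y q ⟶ relA F s Y (q + 1)
  | 0 => biprod.lift (fibRes F s Y 0) ((resol F Y).d 0)
  | q + 1 => biprod.lift (biprod.snd ≫ fibRes F s Y (q + 1) - biprod.fst ≫ fibD F s Y q)
      (biprod.snd ≫ (resol F Y).d (q + 1))

theorem biprod_sec_ext {X : TopCat.{u}} {G H : CohTop.Ab X} {U : Opens X} (x y : (G ⊞ H).obj.obj (op U))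
    (h₁ : (biprod.fst : G ⊞ H ⟶ G).hom.app (op U) x = (biprod.fst : G ⊞ H ⟶ G).hom.app (op U) y)
    (h₂ : (biprod.snd : G ⊞ H ⟶ H).hom.app (op U) x = (biprod.snd : G ⊞ H ⟶ H).hom.app (op U) y) : x = y := by
  have key : ∀ z : (G ⊞ H).obj.obj (op U), z = (biprod.inl : G ⟶ G ⊞ H).hom.app (op U) ((biprod.fst : G ⊞ H ⟶ G).hom.app (op U) z) +
      (biprod.inr : H ⟶ G ⊞ H).hom.app (op U) ((biprod.snd : G ⊞ H ⟶ H).hom.app (op U) z) := fun z =>
    (congrArg (fun φ : G ⊞ H ⟶ G ⊞ H => φ.hom.app (op U) z) (biprod.total (X := G) (Y := H))).symm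
  rw [key x, key y, h₁, h₂]

theorem biprod_isFlasque {X : TopCat.{u}} (G H : CohTop.Ab X) [TopCat.Sheaf.IsFlasque G] [TopCat.Sheaf.IsFlasque H] :
    TopCat.Sheaf.IsFlasque (G ⊞ H) := isFlasque_mk _ fun U V h x => by
  obtain ⟨a, ha⟩ := flasque_surjective G h ((biprod.fst : G ⊞ H ⟶ G).hom.app (op V) x)
  obtain ⟨b, hb⟩ := flasque_surjective H h ((biprod.snd : G ⊞ H ⟶ H).hom.app (op V) x)
  refine ⟨(biprod.inl : G ⟶ G ⊞ H).hom.app (op U) a + (biprod.inr : H ⟶ G ⊞ H).hom.app (op U) b, biprod_sec_ext _ _ ?_ ?_⟩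
  · rw [app_map, map_add]
    erw [congrArg (fun φ : G ⟶ G => φ.hom.app (op U) a) (biprod.inl_fst (X := G) (Y := H)),
      congrArg (fun φ : H ⟶ G => φ.hom.app (op U) b) (biprod.inr_fst (X := G) (Y := H))]
    exact (congrArg (G.obj.map (homOfLE h).op) (add_zero a)).trans ha
  · rw [app_map, map_add]
    erw [congrArg (fun φ : G ⟶ H => φ.hom.app (op U) a) (biprod.inl_snd (X := G) (Y := H)),
      congrArg (fun φ : H ⟶ H => φ.hom.app (op U) b) (biprod.inr_snd (X := G) (Y := H))]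
    exact (congrArg (H.obj.map (homOfLE h).op) (zero_add b)).trans hb

/-- The relative complex. -/
noncomputable def relCx : FlCx Y.left where
  A := relA F s Y
  flasque q := by
    cases q with
    | zero => exact C0Sh_isFlasque _ Y
    | succ q =>
      haveI := fibSh_isFlasque F s Y q
      haveI := C0Sh_isFlasque (Q F (q + 1)) Y
      exact biprod_isFlasque _ _
  d := relD F s Y
  d_d q := by
    cases q with
    | zero =>
      refine biprod.hom_ext _ _ ?_ ?_
      · simp only [relD, Category.assoc, biprod.lift_fst, Preadditive.comp_sub, biprod.lift_fst_assoc,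
          biprod.lift_snd_assoc, zero_comp]
        rw [fibRes_d, sub_self]
      · simp only [relD, Category.assoc, biprod.lift_snd, biprod.lift_snd_assoc, zero_comp]
        exact (resol F Y).d_d 0
    | succ q =>
      refine biprod.hom_ext _ _ ?_ ?_
      · simp only [relD, Category.assoc, biprod.lift_fst, Preadditive.comp_sub, biprod.lift_fst_assoc,
          biprod.lift_snd_assoc, zero_comp, Preadditive.sub_comp]
        rw [fibRes_d, fibD_fibD, comp_zero, sub_zero, sub_self]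
      · simp only [relD, Category.assoc, biprod.lift_snd, biprod.lift_snd_assoc, zero_comp]
        rw [(resol F Y).d_d, comp_zero]

theorem relD_zero_fst {U : Opens Y.left} (x : (C F 0).obj (op ⟨Y, U⟩)) :
    (biprod.fst : fibSh F s Y 0 ⊞ C0Sh (Q F 1) Y ⟶ _).hom.app (op U) ((relD F s Y 0).hom.app (op U) x) =
      (C F 0).map (fibHom s Y U).op x :=
  congrArg (fun φ : C0Sh (Q F 0) Y ⟶ fibSh F s Y 0 => φ.hom.app (op U) x) (biprod.lift_fst _ _)

theorem relD_zero_snd {U : Opens Y.left} (x : (C F 0).obj (op ⟨Y, U⟩)) :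
    (biprod.snd : fibSh F s Y 0 ⊞ C0Sh (Q F 1) Y ⟶ _).hom.app (op U) ((relD F s Y 0).hom.app (op U) x) =
      (d F 0).app (op ⟨Y, U⟩) x :=
  congrArg (fun φ : C0Sh (Q F 0) Y ⟶ C0Sh (Q F 1) Y => φ.hom.app (op U) x) (biprod.lift_snd _ _)

theorem relD_succ_fst (q : ℕ) {U : Opens Y.left} (x : (fibSh F s Y q ⊞ C0Sh (Q F (q + 1)) Y).obj.obj (op U)) :
    (biprod.fst : fibSh F s Y (q + 1) ⊞ C0Sh (Q F (q + 1 + 1)) Y ⟶ _).hom.app (op U) ((relD F s Y (q + 1)).hom.app (op U) x) =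
      (fibRes F s Y (q + 1)).hom.app (op U) ((biprod.snd : fibSh F s Y q ⊞ C0Sh (Q F (q + 1)) Y ⟶ _).hom.app (op U) x) -
        (fibD F s Y q).hom.app (op U) ((biprod.fst : fibSh F s Y q ⊞ C0Sh (Q F (q + 1)) Y ⟶ _).hom.app (op U) x) :=
  congrArg (fun φ : fibSh F s Y q ⊞ C0Sh (Q F (q + 1)) Y ⟶ fibSh F s Y (q + 1) => φ.hom.app (op U) x) (biprod.lift_fst _ _)

theorem relD_succ_snd (q : ℕ) {U : Opens Y.left} (x : (fibSh F s Y q ⊞ C0Sh (Q F (q + 1)) Y).obj.obj (op U)) :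
    (biprod.snd : fibSh F s Y (q + 1) ⊞ C0Sh (Q F (q + 1 + 1)) Y ⟶ _).hom.app (op U) ((relD F s Y (q + 1)).hom.app (op U) x) =
      (d F (q + 1)).app (op ⟨Y, U⟩) ((biprod.snd : fibSh F s Y q ⊞ C0Sh (Q F (q + 1)) Y ⟶ _).hom.app (op U) x) :=
  congrArg (fun φ : fibSh F s Y q ⊞ C0Sh (Q F (q + 1)) Y ⟶ C0Sh (Q F (q + 1 + 1)) Y => φ.hom.app (op U) x) (biprod.lift_snd _ _)

/-- A section pair. -/
noncomputable def relPair (q : ℕ) {U : Opens Y.left} (m : (C F q).obj (op ⟨fib s Y, (Opens.map (fibι s Y)).obj U⟩))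
    (b : (C F (q + 1)).obj (op ⟨Y, U⟩)) : (fibSh F s Y q ⊞ C0Sh (Q F (q + 1)) Y).obj.obj (op U) :=
  (biprod.inl : fibSh F s Y q ⟶ fibSh F s Y q ⊞ C0Sh (Q F (q + 1)) Y).hom.app (op U) m +
    (biprod.inr : C0Sh (Q F (q + 1)) Y ⟶ fibSh F s Y q ⊞ C0Sh (Q F (q + 1)) Y).hom.app (op U) b

theorem relPair_fst (q : ℕ) {U : Opens Y.left} (m : (C F q).obj (op ⟨fib s Y, (Opens.map (fibι s Y)).obj U⟩))
    (b : (C F (q + 1)).obj (op ⟨Y, U⟩)) :
    (biprod.fst : fibSh F s Y q ⊞ C0Sh (Q F (q + 1)) Y ⟶ _).hom.app (op U) (relPair F s Y q m b) = m := by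
  refine (map_add _ _ _).trans ?_
  erw [congrArg (fun φ : fibSh F s Y q ⟶ fibSh F s Y q => φ.hom.app (op U) m) (biprod.inl_fst (Y := C0Sh (Q F (q + 1)) Y)),
    congrArg (fun φ : C0Sh (Q F (q + 1)) Y ⟶ fibSh F s Y q => φ.hom.app (op U) b) (biprod.inr_fst (X := fibSh F s Y q))]
  exact add_zero m

theorem relPair_snd (q : ℕ) {U : Opens Y.left} (m : (C F q).obj (op ⟨fib s Y, (Opens.map (fibι s Y)).obj U⟩))
    (b : (C F (q + 1)).obj (op ⟨Y, U⟩)) :
    (biprod.snd : fibSh F s Y q ⊞ C0Sh (Q F (q + 1)) Y ⟶ _).hom.app (op U) (relPair F s Y q m b) = b := by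
  refine (map_add _ _ _).trans ?_
  erw [congrArg (fun φ : fibSh F s Y q ⟶ C0Sh (Q F (q + 1)) Y => φ.hom.app (op U) m) (biprod.inl_snd (X := fibSh F s Y q)),
    congrArg (fun φ : C0Sh (Q F (q + 1)) Y ⟶ C0Sh (Q F (q + 1)) Y => φ.hom.app (op U) b) (biprod.inr_snd (X := fibSh F s Y q))]
  exact zero_add b

theorem pullP_fibHom {U : Opens Y.left} (b : (pullP F).obj (op ⟨Y, U⟩)) (v : (Opens.map (fibι s Y)).obj U) :
    ((pullP F).map (fibHom s Y U).op b).1 v = b.1 ⟨v.1.1, v.2⟩ := rfl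

theorem unit_map {a b : Sp S} (h : a ⟶ b) (x : (pullP F).obj (op b)) :
    (C F 0).map h.op ((unit (pullP F)).app (op b) x) = (unit (pullP F)).app (op a) ((pullP F).map h.op x) :=
  (NatTrans.naturality_apply (unit (pullP F)) h.op x).symm

theorem rel_key (q : ℕ) {U V V' : Opens Y.left} {W : Opens (fib s Y).left} (hV : V ≤ U) (hV' : V' ≤ V)
    (hf : (Opens.map (fibι s Y)).obj V' ≤ W) (hW : W ≤ (Opens.map (fibι s Y)).obj V)
    (b : (C F q).obj (op ⟨Y, V⟩)) (n : (C F q).obj (op ⟨fib s Y, (Opens.map (fibι s Y)).obj U⟩)) :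
    (C F q).map (fibHom s Y V').op ((C F q).map (incl Y hV').op b) -
        (C F q).map (incl (fib s Y) hf).op ((C F q).map (incl (fib s Y) hW).op
          ((C F q).map (fibHom s Y V).op b -
            (C F q).map (incl (fib s Y) (fun _ hv => hV hv : (Opens.map (fibι s Y)).obj V ≤ (Opens.map (fibι s Y)).obj U)).op n)) =
      (C F q).map (incl (fib s Y) (fun _ hv => hV (hV' hv) : (Opens.map (fibι s Y)).obj V' ≤ (Opens.map (fibι s Y)).obj U)).op n := by
  rw [map_sub, map_sub, ← map_comp_apply, ← map_comp_apply, ← map_comp_apply, ← map_comp_apply, ← map_comp_apply,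
    sub_sub_eq_add_sub, add_comm, add_sub_assoc]
  have h1 : fibHom s Y V' ≫ incl Y hV' = (incl (fib s Y) hf ≫ incl (fib s Y) hW) ≫ fibHom s Y V := hom_ext _ _ fun _ => rfl
  rw [h1, Category.assoc, sub_self, add_zero]
  exact congrArg (fun f => (C F q).map (Quiver.Hom.op f) n) (hom_ext _ _ fun _ => rfl)

theorem relCx_exactAt : (relCx F s Y).ExactAt {y | Y.hom y ∈ ({s} : Set S)} where
  zero U c hc y hy hyU := by
    have h1 : (C F 0).map (fibHom s Y U).op c = 0 := by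
      rw [← relD_zero_fst]
      exact (congrArg _ hc).trans (map_zero _)
    have h2 : (d F 0).app (op ⟨Y, U⟩) c = 0 := by
      rw [← relD_zero_snd F s Y c]
      exact (congrArg _ hc).trans (map_zero _)
    obtain ⟨V, hV, b, hyV, hb⟩ := locExact_zero F Y c h2 y hyU
    have hb0 : (pullP F).map (fibHom s Y V).op b = 0 := by
      refine pullP_gm_injective F (fib s Y) _ ?_
      rw [← unit_map, hb]
      exact (fibHom_natural s Y (C F 0) hV c).symm.trans ((congrArg _ h1).trans (map_zero _))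
    have hby : b.1 ⟨y, hyV⟩ = 0 := congrFun (congrArg Subtype.val hb0) ⟨⟨y, hy⟩, hyV⟩
    obtain ⟨W, Vt, t, hyW, ht⟩ := b.2 ⟨y, hyV⟩
    obtain ⟨hyt, ey⟩ := ht ⟨y, hyV⟩ hyW
    obtain ⟨O, hsO, i, j, eO⟩ := TopCat.Presheaf.germ_eq F.obj (Y.hom y) hyt hyt t 0
      ((ey.symm.trans hby).trans (map_zero _).symm)
    let V' : Opens Y.left := V ⊓ W ⊓ (Opens.map Y.hom).obj O
    have hV' : V' ≤ V := inf_le_left.trans inf_le_left
    have hbV' : (pullP F).map (incl Y hV').op b = 0 := Subtype.ext (funext fun v => by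
      obtain ⟨hv, ev⟩ := ht ⟨v.1, hV' v.2⟩ v.2.1.2
      refine ev.trans ?_
      refine (SheafVan16.germ_map (leOfHom i) (Y.hom v.1) v.2.2 t).symm.trans ?_
      exact (congrArg (SheafVan16.germ F (Y.hom v.1) v.2.2) (eO.trans (map_zero _))).trans (map_zero _))
    refine ⟨V', hV'.trans hV, ⟨⟨hyV, hyW⟩, hsO⟩, ?_⟩
    show (C F 0).map (incl Y (hV'.trans hV)).op c = 0
    have e : incl Y (hV'.trans hV) = incl Y hV' ≫ incl Y hV := hom_ext _ _ fun _ => rfl
    rw [e, map_comp_apply, ← hb, unit_map, hbV', map_zero]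
  succ q U c hc y hy hyU := by
    let n := (biprod.fst : fibSh F s Y q ⊞ C0Sh (Q F (q + 1)) Y ⟶ _).hom.app (op U) c
    let a := (biprod.snd : fibSh F s Y q ⊞ C0Sh (Q F (q + 1)) Y ⟶ _).hom.app (op U) c
    have ha : (d F (q + 1)).app (op ⟨Y, U⟩) a = 0 := by
      rw [← relD_succ_snd F s Y q c]
      exact (congrArg _ hc).trans (map_zero _)
    have hn : (C F (q + 1)).map (fibHom s Y U).op a = (d F q).app (op ⟨fib s Y, (Opens.map (fibι s Y)).obj U⟩) n := by
      refine sub_eq_zero.1 ((relD_succ_fst F s Y q c).symm.trans ?_)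
      exact (congrArg _ hc).trans (map_zero _)
    obtain ⟨V, hV, b, hyV, hb⟩ := locExact_succ F q Y a ha y hyU
    let hVf : (Opens.map (fibι s Y)).obj V ≤ (Opens.map (fibι s Y)).obj U := fun _ hv => hV hv
    let e : (C F q).obj (op ⟨fib s Y, (Opens.map (fibι s Y)).obj V⟩) :=
      (C F q).map (fibHom s Y V).op b - (C F q).map (incl (fib s Y) hVf).op n
    have he : (d F q).app (op ⟨fib s Y, (Opens.map (fibι s Y)).obj V⟩) e = 0 := by
      refine (map_sub _ _ _).trans (sub_eq_zero.2 ?_)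
      rw [NatTrans.naturality_apply, hb, NatTrans.naturality_apply, ← hn, fibHom_natural]
    have open_eq : ∀ W : Opens (fib s Y).left, ∃ O : Opens Y.left, (Opens.map (fibι s Y)).obj O = W := fun W => by
      obtain ⟨O, hO, eO⟩ := isOpen_induced_iff.1 W.isOpen
      exact ⟨⟨O, hO⟩, Opens.ext eO⟩
    cases q with
    | zero =>
      obtain ⟨VZ, hVZ, e', hyVZ, he'⟩ := locExact_zero F (fib s Y) e he ⟨y, hy⟩ hyV
      obtain ⟨WZ, Vt, t, hyWZ, ht⟩ := e'.2 ⟨⟨y, hy⟩, hyVZ⟩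
      obtain ⟨hyt, -⟩ := ht ⟨⟨y, hy⟩, hyVZ⟩ hyWZ
      obtain ⟨O, hO⟩ := open_eq (VZ ⊓ WZ)
      let V' : Opens Y.left := V ⊓ O ⊓ (Opens.map Y.hom).obj Vt
      have hV' : V' ≤ V := inf_le_left.trans inf_le_left
      let e'' : (pullP F).obj (op ⟨Y, V'⟩) := ⟨fun v => SheafVan16.germ F (Y.hom v.1) v.2.2 t,
        fun v => ⟨V', Vt, t, v.2, fun w hw => ⟨w.2.2, rfl⟩⟩⟩
      have hf : ∀ v : (Opens.map (fibι s Y)).obj V', v.1 ∈ VZ ⊓ WZ := fun v => hO ▸ (show v.1 ∈ (Opens.map (fibι s Y)).obj O from v.2.1.2)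
      have key : (pullP F).map (fibHom s Y V').op e'' = (pullP F).map (incl (fib s Y) fun v hv => (hf ⟨v, hv⟩).1).op e' :=
        Subtype.ext (funext fun v => (ht ⟨v.1, (hf v).1⟩ (hf v).2).2.symm)
      refine ⟨V', hV'.trans hV, ⟨⟨hyV, show (⟨y, hy⟩ : (fib s Y).left) ∈ (Opens.map (fibι s Y)).obj O from hO ▸ ⟨hyVZ, hyWZ⟩⟩, hyt⟩,
        @HSub.hSub ((C F 0).obj (op ⟨Y, V'⟩)) ((C F 0).obj (op ⟨Y, V'⟩)) ((C F 0).obj (op ⟨Y, V'⟩)) _
          ((C F 0).map (incl Y hV').op b) ((unit (pullP F)).app (op ⟨Y, V'⟩) e''), ?_⟩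
      refine biprod_sec_ext _ _ ?_ ?_
      · refine (relD_zero_fst F s Y _).trans (Eq.trans ?_ (app_map _ (hV'.trans hV) c).symm)
        rw [map_sub, unit_map, key, ← unit_map, he']
        exact rel_key F s Y 0 hV hV' _ hVZ b n
      · refine (relD_zero_snd F s Y _).trans (Eq.trans ?_ (app_map _ (hV'.trans hV) c).symm)
        have : (d F 0).app (op ⟨Y, V'⟩) ((unit (pullP F)).app (op ⟨Y, V'⟩) e'') = 0 :=
          congrArg (fun φ : pullP F ⟶ C F 1 => φ.app (op ⟨Y, V'⟩) e'') (unit_d F)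
        rw [map_sub, this, sub_zero, NatTrans.naturality_apply, hb, ← map_comp_apply]
        rfl
    | succ q =>
      obtain ⟨VZ, hVZ, m, hyVZ, hm⟩ := locExact_succ F q (fib s Y) e he ⟨y, hy⟩ hyV
      obtain ⟨O, hO⟩ := open_eq VZ
      let V' : Opens Y.left := V ⊓ O
      have hf : (Opens.map (fibι s Y)).obj V' ≤ VZ := fun v hv => hO ▸ hv.2
      refine ⟨V', inf_le_left.trans hV, ⟨hyV, show (⟨y, hy⟩ : (fib s Y).left) ∈ (Opens.map (fibι s Y)).obj O from hO ▸ hyVZ⟩,
        relPair F s Y q ((C F q).map (incl (fib s Y) hf).op m) ((C F (q + 1)).map (incl Y (inf_le_left : V' ≤ V)).op b), ?_⟩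
      refine biprod_sec_ext _ _ ?_ ?_
      · refine (relD_succ_fst F s Y q _).trans (Eq.trans ?_ (app_map _ (inf_le_left.trans hV) c).symm)
        rw [relPair_snd, relPair_fst, fibD_app, NatTrans.naturality_apply, hm]
        exact rel_key F s Y (q + 1) hV inf_le_left hf hVZ b n
      · refine (relD_succ_snd F s Y q _).trans (Eq.trans ?_ (app_map _ (inf_le_left.trans hV) c).symm)
        rw [relPair_snd, NatTrans.naturality_apply, hb, ← map_comp_apply]
        rfl

/-- The fibre over `s` is compact, relatively separated, with tubes. -/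
structure GoodFibre : Prop where
  compact : IsCompact {y | Y.hom y ∈ ({s} : Set S)}
  sep : ∀ z ∈ {y | Y.hom y ∈ ({s} : Set S)}, ∀ z' ∈ {y | Y.hom y ∈ ({s} : Set S)}, z ≠ z' →
    ∃ U V : Set Y.left, IsOpen U ∧ IsOpen V ∧ z ∈ U ∧ z' ∈ V ∧ Disjoint U V
  tube : ∀ O : Opens Y.left, {y | Y.hom y ∈ ({s} : Set S)} ⊆ (O : Set Y.left) →
    ∃ V : Opens S, s ∈ V ∧ (Opens.map Y.hom).obj V ≤ O

variable {s}

/-- The fibre in a neighbourhood. -/
def fibTop (Y : Over S) {V : Opens S} (hs : s ∈ V) : (⟨fib s Y, ⊤⟩ : Sp S) ⟶ ⟨Y, (Opens.map Y.hom).obj V⟩ :=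
  mkHom (fun v => ⟨v.1.1, show Y.hom v.1.1 ∈ V from (v.1.2 : Y.hom v.1.1 = s).symm ▸ hs⟩)
    ((continuous_subtype_val.comp continuous_subtype_val).subtype_mk _) fun _ => rfl

/-- The fibre system maps to the systems of neighbourhoods. -/
def Aug.fibMap (A : Aug S) {V : Opens S} (hs : s ∈ V) : SysHom (A.subSys ({s} : Set S)) (A.sys V) where
  f p := fibTop (A.X p) hs
  comm p i := hom_ext _ _ fun _ => rfl

/-- Functoriality of cones in the source. -/
def coneRes {M M' N : DblCx16.Dbl.{u}} (φ : DblCx16.Hom M N) (φ' : DblCx16.Hom M' N) (r : DblCx16.Hom M M')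
    (h : ∀ p q x, φ'.f p q (r.f p q x) = φ.f p q x) : DblCx16.Hom (DblCx16.cone φ) (DblCx16.cone φ') where
  f p q :=
    match q with
    | 0 => r.f p 0
    | q + 1 => (AddMonoidHom.id (N.X p q)).prodMap (r.f p (q + 1))
  f_h p q x := by
    cases q with
    | zero => exact r.f_h p 0 x
    | succ q => exact Prod.ext rfl (r.f_h p (q + 1) x.2)
  f_v p q x := by
    cases q with
    | zero => exact Prod.ext (h p 0 x).symm (r.f_v p 0 x)
    | succ q =>
      refine Prod.ext ?_ (r.f_v p (q + 1) x.2)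
      show φ.f p (q + 1) x.2 - N.v p q x.1 = φ'.f p (q + 1) (r.f p (q + 1) x.2) - N.v p q x.1
      rw [h]

theorem Aug.locExact_of_fibres (A : Aug S) (hg : ∀ (s : S) p, GoodFibre s (A.X p))
    (hc : ∀ s : S, Nonempty (Contraction (A.subSys ({s} : Set S)))) : A.LocExact F := by
  intro s V hs n a ha
  let φ : ∀ W : {W : Opens S // s ∈ W}, DblCx16.Hom (dbl F (A.sys W.1)) (dbl F (A.subSys ({s} : Set S))) :=
    fun W => dblMap F (A.fibMap W.2)
  have hφ : ∀ (W W' : {W : Opens S // s ∈ W}) (h : W'.1 ≤ W.1) p q x,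
      (φ W').f p q ((A.rdbl F h).f p q x) = (φ W).f p q x := fun W W' h p q x => by
    show (C F q).map _ ((C F q).map _ x) = (C F q).map _ x
    rw [← map_comp_apply]
    exact congrArg (fun f => (C F q).map (Quiver.Hom.op f) x) (hom_ext _ _ fun _ => rfl)
  obtain ⟨b, hb⟩ := totExact_of_contraction F (hc s).some n ((φ ⟨V, hs⟩).tot n a) (by
    rw [← DblCx16.Hom.tot_td, ha, map_zero])
  obtain ⟨c, hc1, hc2⟩ := DblCx16.exists_cone_cycle (φ ⟨V, hs⟩) n a ha b hb
  refine Exists.elim (DblCx16.exists_td_eq_of_columns (ι := ({W : Opens S // s ∈ W})ᵒᵈ)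
    (fun W => DblCx16.cone (φ (OrderDual.ofDual W)))
    (fun {W W'} h => coneRes (φ (OrderDual.ofDual W)) (φ (OrderDual.ofDual W')) (A.rdbl F h) (hφ _ _ h))
    (fun {i j k} h h' p q x => by
      cases q with
      | zero => exact A.rdbl_rdbl F h h' p 0 x
      | succ q => exact Prod.ext rfl (A.rdbl_rdbl F h h' p (q + 1) x.2))
    (fun i p q x => by
      cases q with
      | zero => exact A.rdbl_refl F p 0 x
      | succ q => exact Prod.ext rfl (A.rdbl_refl F p (q + 1) x.2))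
    (fun i p x hx => ?_) (fun i p q x hx => ?_) (OrderDual.toDual ⟨V, hs⟩) n c hc1) ?_
  rotate_left 2
  · rintro W ⟨hW, bb, hbb⟩
    refine ⟨(OrderDual.ofDual W).1, hW, (OrderDual.ofDual W).2,
      (DblCx16.coneProj (φ (OrderDual.ofDual W))).tot _ bb, ?_⟩
    rw [← DblCx16.Hom.tot_td, hbb, ← hc2]
    funext k
    obtain ⟨⟨p, q⟩, hk⟩ := k
    cases q <;> rfl
  · obtain ⟨⟨W, hsW⟩, rfl⟩ := OrderDual.toDual.surjective i
    let Y := A.X p
    let U : Opens Y.left := (Opens.map Y.hom).obj W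
    change (C F 0).obj (op ⟨Y, U⟩) at x
    have hx' : (relD F s Y 0).hom.app (op U) x = 0 := by
      refine biprod_sec_ext _ _ ((relD_zero_fst F s Y x).trans (Eq.trans ?_ (map_zero _).symm))
        ((relD_zero_snd F s Y x).trans (Eq.trans ?_ (map_zero _).symm))
      · have h1 : (C F 0).map (fibTop Y hsW).op x = 0 := congrArg Prod.fst hx
        have e : fibHom s Y U = incl (fib s Y) le_top ≫ fibTop Y hsW := hom_ext _ _ fun _ => rfl
        rw [e, map_comp_apply, h1, map_zero]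
      · exact congrArg Prod.snd hx
    obtain ⟨O, hO, hKO, h0⟩ := (relCx F s Y).exists_zero_near (relCx_exactAt F s Y) (U := U)
      (fun y (hy : Y.hom y = s) => show Y.hom y ∈ W from hy.symm ▸ hsW) x hx'
    obtain ⟨W', hsW', hW'⟩ := (hg s p).tube O hKO
    refine ⟨OrderDual.toDual ⟨W ⊓ W', hsW, hsW'⟩, (inf_le_left : W ⊓ W' ≤ W), ?_⟩
    have e : (A.res (inf_le_left : W ⊓ W' ≤ W)).f p = incl Y (fun y hy => hW' hy.2 : (Opens.map Y.hom).obj (W ⊓ W') ≤ O) ≫ incl Y hO := hom_ext _ _ fun _ => rfl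
    show (C F 0).map ((A.res (inf_le_left : W ⊓ W' ≤ W)).f p).op x = 0
    rw [e, map_comp_apply]
    exact (congrArg _ h0).trans (map_zero _)
  · obtain ⟨⟨W, hsW⟩, rfl⟩ := OrderDual.toDual.surjective i
    let Y := A.X p
    let U : Opens Y.left := (Opens.map Y.hom).obj W
    obtain ⟨n', a'⟩ := x
    let m : (C F q).obj (op ⟨fib s Y, (Opens.map (fibι s Y)).obj U⟩) := (C F q).map (incl (fib s Y) le_top).op n'
    change (C F q).obj (op ⟨fib s Y, ⊤⟩) at n'
    change (C F (q + 1)).obj (op ⟨Y, U⟩) at a'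
    have h1 : (C F (q + 1)).map (fibTop Y hsW).op a' = (d F q).app (op ⟨fib s Y, ⊤⟩) n' :=
      sub_eq_zero.1 (congrArg Prod.fst hx)
    have h2 : (d F (q + 1)).app (op ⟨Y, U⟩) a' = 0 := congrArg Prod.snd hx
    have hx' : (relD F s Y (q + 1)).hom.app (op U) (relPair F s Y q m a') = 0 := by
      refine biprod_sec_ext _ _ ((relD_succ_fst F s Y q _).trans (Eq.trans ?_ (map_zero _).symm))
        ((relD_succ_snd F s Y q _).trans (Eq.trans ?_ (map_zero _).symm))
      · rw [relPair_snd, relPair_fst, fibD_app, NatTrans.naturality_apply, ← h1]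
        show (C F (q + 1)).map (fibHom s Y U).op a' - _ = 0
        rw [← map_comp_apply, sub_eq_zero]
        exact congrArg (fun f => (C F (q + 1)).map (Quiver.Hom.op f) a') (hom_ext _ _ fun _ => rfl)
      · rw [relPair_snd]; exact h2
    obtain ⟨O, hO, b, hKO, hb⟩ := (relCx F s Y).exists_boundary_near _ (relCx_exactAt F s Y) (hg s p).sep q _
      (hg s p).compact subset_rfl U (fun y (hy : Y.hom y = s) => show Y.hom y ∈ W from hy.symm ▸ hsW) _ hx'
    obtain ⟨W', hsW', hW'⟩ := (hg s p).tube O hKO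
    let U' : Opens Y.left := (Opens.map Y.hom).obj (W ⊓ W')
    have hU' : U' ≤ O := fun y hy => hW' hy.2
    have hUU : U' ≤ U := fun y hy => hy.1
    have htop : (⊤ : Opens (fib s Y).left) ≤ (Opens.map (fibι s Y)).obj U' := fun v _ =>
      show Y.hom v.1 ∈ W ⊓ W' from (v.2 : Y.hom v.1 = s).symm ▸ ⟨hsW, hsW'⟩
    have hb' : (relD F s Y q).hom.app (op U') ((relA F s Y q).obj.map (homOfLE hU').op b) =
        (relA F s Y (q + 1)).obj.map (homOfLE hUU).op (relPair F s Y q m a') :=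
      (app_map _ hU' b).trans ((congrArg _ hb).trans (map_map hO hU' _))
    refine ⟨OrderDual.toDual ⟨W ⊓ W', hsW, hsW'⟩, (inf_le_left : W ⊓ W' ≤ W), ?_⟩
    have hfst : (C F q).map (incl (fib s Y) htop).op
        ((C F q).map (incl (fib s Y) (fun v hv => hUU hv : (Opens.map (fibι s Y)).obj U' ≤ (Opens.map (fibι s Y)).obj U)).op m) = n' := by
      rw [← map_comp_apply, ← map_comp_apply]
      refine (congrArg (fun f => (C F q).map (Quiver.Hom.op f) n') (hom_ext _ (𝟙 _) fun _ => rfl)).trans ?_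
      rw [op_id, CategoryTheory.Functor.map_id]
      rfl
    have hB : (biprod.fst : fibSh F s Y q ⊞ C0Sh (Q F (q + 1)) Y ⟶ _).hom.app (op U')
        ((relA F s Y (q + 1)).obj.map (homOfLE hUU).op (relPair F s Y q m a')) =
        (C F q).map (incl (fib s Y) (fun v hv => hUU hv : (Opens.map (fibι s Y)).obj U' ≤ (Opens.map (fibι s Y)).obj U)).op m :=
      (app_map _ hUU _).trans (congrArg _ (relPair_fst F s Y q m a'))
    have hA : (biprod.snd : fibSh F s Y q ⊞ C0Sh (Q F (q + 1)) Y ⟶ _).hom.app (op U')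
        ((relA F s Y (q + 1)).obj.map (homOfLE hUU).op (relPair F s Y q m a')) = (C F (q + 1)).map (incl Y hUU).op a' :=
      (app_map _ hUU _).trans (congrArg _ (relPair_snd F s Y q m a'))
    cases q with
    | zero =>
      let bU : (C F 0).obj (op ⟨Y, U'⟩) := (relA F s Y 0).obj.map (homOfLE hU').op b
      refine ⟨bU, Prod.ext ?_ ?_⟩
      · show (C F 0).map (fibTop Y (show s ∈ W ⊓ W' from ⟨hsW, hsW'⟩)).op bU = n'
        rw [← hfst, ← hB, ← hb', relD_zero_fst, ← map_comp_apply]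
        exact congrArg (fun f => (C F 0).map (Quiver.Hom.op f) bU) (hom_ext _ _ fun _ => rfl)
      · show (d F 0).app (op ⟨Y, U'⟩) bU = (C F 1).map (incl Y hUU).op a'
        rw [← hA, ← hb', relD_zero_snd]
    | succ q =>
      let bU : (fibSh F s Y q ⊞ C0Sh (Q F (q + 1)) Y).obj.obj (op U') := (relA F s Y (q + 1)).obj.map (homOfLE hU').op b
      let b1 : (C F q).obj (op ⟨fib s Y, (Opens.map (fibι s Y)).obj U'⟩) :=
        (biprod.fst : fibSh F s Y q ⊞ C0Sh (Q F (q + 1)) Y ⟶ _).hom.app (op U') bU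
      let b2 : (C F (q + 1)).obj (op ⟨Y, U'⟩) :=
        (biprod.snd : fibSh F s Y q ⊞ C0Sh (Q F (q + 1)) Y ⟶ _).hom.app (op U') bU
      refine ⟨((C F q).map (incl (fib s Y) htop).op b1, b2), Prod.ext ?_ ?_⟩
      · show @HSub.hSub ((C F (q + 1)).obj (op ⟨fib s Y, ⊤⟩)) ((C F (q + 1)).obj (op ⟨fib s Y, ⊤⟩)) ((C F (q + 1)).obj (op ⟨fib s Y, ⊤⟩)) _
          ((C F (q + 1)).map (fibTop Y (show s ∈ W ⊓ W' from ⟨hsW, hsW'⟩)).op b2)
          ((d F q).app (op ⟨fib s Y, ⊤⟩) ((C F q).map (incl (fib s Y) htop).op b1)) = n'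
        rw [← hfst, ← hB, ← hb', relD_succ_fst, fibD_app, map_sub, NatTrans.naturality_apply]
        congr 1
        show _ = (C F (q + 1)).map _ ((C F (q + 1)).map (fibHom s Y U').op b2)
        refine Eq.trans ?_ (map_comp_apply (C F (q + 1)) _ _ b2)
        exact congrArg (fun f => (C F (q + 1)).map (Quiver.Hom.op f) b2) (hom_ext _ _ fun _ => rfl)
      · show (d F (q + 1)).app (op ⟨Y, U'⟩) b2 = (C F (q + 1 + 1)).map (incl Y hUU).op a'
        rw [← hA, ← hb', relD_succ_snd]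

end Groth.Agent.SimpGod16
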