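import Groth.Agent.Lib.CohFound.DimShift
import Groth.Agent.Lib.CohFound.Bridge
import Mathlib.Algebra.Homology.ShortComplex.Ab
import Mathlib.Algebra.Homology.HomologicalComplex

/-! Cohomology from a flasque resolution given elementwise. -/

universe u

open CategoryTheory TopologicalSpace Opposite CategoryTheory.Limits

set_option autoImplicit false
set_option linter.style.haveILetI false
set_option backward.isDefEq.respectTransparency false
set_option backward.isDefEq.respectTransparency.types false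

namespace Groth.Agent.SimpGod16

open Groth.Agent.CohFound

variable {Y : TopCat.{u}}

/-- A resolution by flasque sheaves, elementwise. -/
structure Resol (G : CohTop.Ab Y) : Type (u + 1) where
  A : ℕ → CohTop.Ab Y
  flasque : ∀ q, TopCat.Sheaf.IsFlasque (A q)
  d : ∀ q, A q ⟶ A (q + 1)
  d_d : ∀ q, d q ≫ d (q + 1) = 0
  ε : G ⟶ A 0
  ε_d : ε ≫ d 0 = 0
  ε_inj : ∀ U, Function.Injective (ε.hom.app (op U))
  exact_zero : ∀ (U : Opens Y) (c : (A 0).obj.obj (op U)), (d 0).hom.app (op U) c = 0 → ∀ y ∈ U,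
    ∃ (V : Opens Y) (hV : V ≤ U), y ∈ V ∧ ∃ b, ε.hom.app (op V) b = (A 0).obj.map (homOfLE hV).op c
  exact_succ : ∀ (q : ℕ) (U : Opens Y) (c : (A (q + 1)).obj.obj (op U)), (d (q + 1)).hom.app (op U) c = 0 → ∀ y ∈ U,
    ∃ (V : Opens Y) (hV : V ≤ U), y ∈ V ∧ ∃ b, (d q).hom.app (op V) b = (A (q + 1)).obj.map (homOfLE hV).op c

variable {G : CohTop.Ab Y} (R : Resol G)

/-- The complex of sections. -/
noncomputable def Resol.secCx (U : Opens Y) : CochainComplex AddCommGrpCat.{u} ℕ :=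
  CochainComplex.of (fun q => (R.A q).obj.obj (op U)) (fun q => (R.d q).hom.app (op U)) fun q => by
    exact congrArg (fun φ : R.A q ⟶ R.A (q + 1 + 1) => φ.hom.app (op U)) (R.d_d q)

theorem Resol.secCx_d (U : Opens Y) (q : ℕ) (x : (R.A q).obj.obj (op U)) :
    (R.secCx U).d q (q + 1) x = (R.d q).hom.app (op U) x :=
  congrArg (fun g => g x) (CochainComplex.of_d (fun q => (R.A q).obj.obj (op U)) (fun q => (R.d q).hom.app (op U)) q)

/-- The sheaves of cycles. -/
noncomputable def Resol.Z (q : ℕ) : CohTop.Ab Y := kernel (R.d q)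

/-- The map to the next cycles. -/
noncomputable def Resol.ρ (q : ℕ) : R.A q ⟶ R.Z (q + 1) := kernel.lift _ (R.d q) (R.d_d q)

theorem Resol.ι_injective (q : ℕ) (U : Opens Y) : Function.Injective ((kernel.ι (R.d q)).hom.app (op U)) :=
  injective_app_of_mono _ U

theorem Resol.exists_of_cycle (q : ℕ) {U : Opens Y} (c : (R.A q).obj.obj (op U))
    (hc : (R.d q).hom.app (op U) c = 0) : ∃ z, (kernel.ι (R.d q)).hom.app (op U) z = c :=
  exact_app (S := ShortComplex.mk _ _ (kernel.condition (R.d q))) (ShortComplex.exact_kernel _) c hc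

theorem Resol.d_ι (q : ℕ) {U : Opens Y} (z : (R.Z q).obj.obj (op U)) :
    (R.d q).hom.app (op U) ((kernel.ι (R.d q)).hom.app (op U) z) = 0 :=
  congrArg (fun φ : R.Z q ⟶ R.A (q + 1) => φ.hom.app (op U) z) (kernel.condition (R.d q))

theorem Resol.ι_ρ (q : ℕ) {U : Opens Y} (a : (R.A q).obj.obj (op U)) :
    (kernel.ι (R.d (q + 1))).hom.app (op U) ((R.ρ q).hom.app (op U) a) = (R.d q).hom.app (op U) a :=
  congrArg (fun φ : R.A q ⟶ R.A (q + 1) => φ.hom.app (op U) a) (kernel.lift_ι _ _ _)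

theorem Resol.wρ (q : ℕ) : kernel.ι (R.d q) ≫ R.ρ q = 0 := by
  rw [← cancel_mono (kernel.ι (R.d (q + 1))), Category.assoc, Resol.ρ, kernel.lift_ι, kernel.condition, zero_comp]

/-- The short exact sequences of cycles. -/
noncomputable abbrev Resol.SC (q : ℕ) : ShortComplex (CohTop.Ab Y) := ShortComplex.mk _ _ (R.wρ q)

theorem Resol.shortExact (q : ℕ) : (R.SC q).ShortExact :=
  shortExact_of_sections (R.ι_injective q)
    (fun U s hs => R.exists_of_cycle q s (by
      refine (R.ι_ρ q s).symm.trans ?_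
      exact (congrArg _ hs).trans (map_zero _)))
    fun U s x hx => by
      obtain ⟨V, hV, hxV, b, hb⟩ := R.exact_succ q U ((kernel.ι (R.d (q + 1))).hom.app (op U) s) (R.d_ι _ s) x hx
      refine ⟨V, hV, hxV, b, R.ι_injective (q + 1) V ?_⟩
      exact (R.ι_ρ q b).trans (hb.trans (NatTrans.naturality_apply (kernel.ι (R.d (q + 1))).hom _ s).symm)

theorem Resol.nonempty_iso_Z : Nonempty (G ≅ R.Z 0) := by
  have hι : ∀ {U : Opens Y} (a : G.obj.obj (op U)),
      (kernel.ι (R.d 0)).hom.app (op U) ((kernel.lift _ R.ε R.ε_d).hom.app (op U) a) = R.ε.hom.app (op U) a :=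
    fun a => congrArg (fun φ : G ⟶ R.A 0 => φ.hom.app _ a) (kernel.lift_ι _ _ _)
  haveI : Mono (kernel.lift _ R.ε R.ε_d) := mono_of_injective_app _ fun U a b h =>
    R.ε_inj U (by rw [← hι, ← hι, h])
  haveI : Epi (kernel.lift _ R.ε R.ε_d) := epi_of_locally_lift _ fun U s x hx => by
    obtain ⟨V, hV, hxV, b, hb⟩ := R.exact_zero U ((kernel.ι (R.d 0)).hom.app (op U) s) (R.d_ι _ s) x hx
    refine ⟨V, hV, hxV, b, R.ι_injective 0 V ?_⟩
    exact (hι b).trans (hb.trans (NatTrans.naturality_apply (kernel.ι (R.d 0)).hom _ s).symm)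
  haveI := isIso_of_mono_of_epi (kernel.lift _ R.ε R.ε_d)
  exact ⟨asIso (kernel.lift _ R.ε R.ε_d)⟩

theorem Resol.nonempty_hc_shift (U : Opens Y) (q : ℕ) : ∀ m n : ℕ, n = q + m + 1 →
    Nonempty (Hc (R.Z q) (m + 1) U ≃+ Hc (R.Z 0) n U) := by
  induction q with
  | zero => rintro m n rfl; rw [Nat.zero_add]; exact ⟨AddEquiv.refl _⟩
  | succ q ih =>
    intro m n hn
    obtain ⟨e⟩ := ih (m + 1) n (by omega)
    haveI : TopCat.Sheaf.IsFlasque (R.SC q).X₂ := R.flasque q
    exact ⟨(AddEquiv.ofBijective _ (delta_bijective (R.shortExact q) m U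
      (subsingleton_hc_of_isFlasque _ m U) (subsingleton_hc_of_isFlasque _ (m + 1) U))).trans e⟩

/-- The cycles as a subgroup. -/
noncomputable def Resol.cycEquiv (q : ℕ) (U : Opens Y) :
    (R.Z q).obj.obj (op U) ≃+ ((R.d q).hom.app (op U)).hom.ker :=
  AddEquiv.ofBijective ((((kernel.ι (R.d q)).hom.app (op U)).hom).codRestrict _ fun z => R.d_ι q z)
    ⟨fun a b h => R.ι_injective q U (congrArg Subtype.val h),
      fun c => (R.exists_of_cycle q c.1 c.2).imp fun z hz => Subtype.ext hz⟩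

theorem Resol.nonempty_homology_succ (U : Opens Y) (q : ℕ) :
    Nonempty ((R.secCx U).homology (q + 1) ≅ AddCommGrpCat.of (Hc (R.Z q) 1 U)) := by
  let S := (R.secCx U).sc' q (q + 1) (q + 2)
  haveI : TopCat.Sheaf.IsFlasque (R.SC q).X₂ := R.flasque q
  let φ : S.g.hom.ker →+ Hc (R.Z q) 1 U :=
    ((delta₀ (R.shortExact q) U).comp (R.cycEquiv (q + 1) U).symm.toAddMonoidHom).comp
      ((S.g.hom.ker.subtype).codRestrict ((R.d (q + 1)).hom.app (op U)).hom.ker fun x =>
        (R.secCx_d U (q + 1) x.1).symm.trans x.2)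
  have hs : Function.Surjective φ := fun z => by
    obtain ⟨w, hw⟩ := delta₀_surjective (R.shortExact q) U (subsingleton_hc_of_isFlasque _ 0 U) z
    refine ⟨⟨(kernel.ι (R.d (q + 1))).hom.app (op U) w, (R.secCx_d U (q + 1) _).trans (R.d_ι _ w)⟩, ?_⟩
    refine (congrArg (delta₀ (R.shortExact q) U) ?_).trans hw
    exact (R.cycEquiv (q + 1) U).symm_apply_apply w
  have hk : φ.ker = S.abToCycles.range := by
    ext ⟨x, hx⟩
    have hx' : (R.d (q + 1)).hom.app (op U) x = 0 := (R.secCx_d U (q + 1) x).symm.trans hx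
    obtain ⟨w, hw⟩ := R.exists_of_cycle (q + 1) x hx'
    have hφ : φ ⟨x, hx⟩ = delta₀ (R.shortExact q) U w :=
      congrArg (delta₀ (R.shortExact q) U) ((AddEquiv.symm_apply_eq _).2 (Subtype.ext hw.symm))
    have hr : delta₀ (R.shortExact q) U w = 0 ↔ ∃ b, (R.ρ q).hom.app (op U) b = w :=
      (SetLike.ext_iff.1 (delta₀_ker (R.shortExact q) U) w)
    rw [AddMonoidHom.mem_ker, hφ, hr]
    constructor
    · rintro ⟨b, hb⟩
      exact ⟨b, Subtype.ext ((R.secCx_d U q b).trans ((R.ι_ρ q b).symm.trans ((congrArg _ hb).trans hw)))⟩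
    · rintro ⟨b, hb⟩
      exact ⟨b, R.ι_injective (q + 1) U ((R.ι_ρ q b).trans ((R.secCx_d U q b).symm.trans
        ((congrArg Subtype.val hb).trans hw.symm)))⟩
  exact ⟨(R.secCx U).homologyIsoSc' q (q + 1) (q + 2) (by simp) (by simp) ≪≫ S.abHomologyIso ≪≫
    AddEquiv.toAddCommGrpIso (X := AddCommGrpCat.of _) (Y := AddCommGrpCat.of _)
      ((QuotientAddGroup.quotientAddEquivOfEq hk.symm).trans (QuotientAddGroup.quotientKerEquivOfSurjective φ hs))⟩

theorem Resol.nonempty_homology_zero (U : Opens Y) :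
    Nonempty ((R.secCx U).homology 0 ≅ AddCommGrpCat.of (Hc (R.Z 0) 0 U)) := by
  let S := (R.secCx U).sc' 0 0 1
  have hb : S.abToCycles.range = ⊥ := by
    rw [AddSubgroup.eq_bot_iff_forall]
    rintro _ ⟨b, rfl⟩
    refine Subtype.ext ?_
    show (R.secCx U).d 0 0 b = 0
    rw [(R.secCx U).shape 0 0 (by simp)]
    rfl
  let e : S.g.hom.ker ≃+ ((R.d 0).hom.app (op U)).hom.ker :=
    { toFun := fun x => ⟨x.1, (R.secCx_d U 0 x.1).symm.trans x.2⟩
      invFun := fun x => ⟨x.1, (R.secCx_d U 0 x.1).trans x.2⟩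
      left_inv := fun _ => rfl
      right_inv := fun _ => rfl
      map_add' := fun _ _ => rfl }
  exact ⟨(R.secCx U).homologyIsoSc' 0 0 1 (by simp) (by simp) ≪≫ S.abHomologyIso ≪≫
    AddEquiv.toAddCommGrpIso (X := AddCommGrpCat.of _) (Y := AddCommGrpCat.of _)
      ((QuotientAddGroup.quotientAddEquivOfEq hb).trans (QuotientAddGroup.quotientBot.trans
        (e.trans ((R.cycEquiv 0 U).symm.trans (hc0 _ U).symm))))⟩

/-- A flasque resolution computes cohomology. -/
theorem Resol.nonempty_homology (U : Opens Y) (q : ℕ) :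
    Nonempty ((R.secCx U).homology q ≅ AddCommGrpCat.of (Hc G q U)) := by
  obtain ⟨i⟩ := R.nonempty_iso_Z
  let e : Hc (R.Z 0) q U ≃+ Hc G q U :=
    { toFun := mp i.inv q U
      invFun := mp i.hom q U
      left_inv := fun x => by rw [← mp_comp, i.inv_hom_id, mp_id]
      right_inv := fun x => by rw [← mp_comp, i.hom_inv_id, mp_id]
      map_add' := map_add _ }
  cases q with
  | zero => exact ⟨(R.nonempty_homology_zero U).some ≪≫ AddEquiv.toAddCommGrpIso e⟩
  | succ q =>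
    exact ⟨(R.nonempty_homology_succ U q).some ≪≫
      AddEquiv.toAddCommGrpIso ((R.nonempty_hc_shift U q 0 (q + 1) rfl).some.trans e)⟩

theorem Resol.nonempty_homology_top (q : ℕ) :
    Nonempty ((R.secCx ⊤).homology q ≅ AddCommGrpCat.of (CohTop.H G q)) :=
  ⟨(R.nonempty_homology ⊤ q).some ≪≫ AddEquiv.toAddCommGrpIso (hExt G q).symm⟩

theorem Resol.exists_d_of_isZero (hG : IsZero G) (U : Opens Y) (q : ℕ) (c : (R.A (q + 1)).obj.obj (op U))
    (hc : (R.d (q + 1)).hom.app (op U) c = 0) : ∃ b, (R.d q).hom.app (op U) b = c := by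
  obtain ⟨i⟩ := R.nonempty_iso_Z
  obtain ⟨e⟩ := R.nonempty_hc_shift U q 0 (q + 1) rfl
  obtain ⟨z, hz⟩ := R.exists_of_cycle (q + 1) c hc
  haveI hZ : Subsingleton (Hc (R.Z 0) (q + 1) U) := subsingleton_of_forall_eq 0 fun x => by
    have : 𝟙 (R.Z 0) = 0 := (hG.of_iso i.symm).eq_of_src _ _
    rw [← mp_id _ _ _ x, this, mp_zero]
  have hsub : Subsingleton (Hc (R.SC q).X₁ 1 U) := e.toEquiv.subsingleton
  haveI : TopCat.Sheaf.IsFlasque (R.SC q).X₂ := R.flasque q
  obtain ⟨b, hb⟩ := app_surjective_of_subsingleton (R.shortExact q) U hsub z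
  exact ⟨b, (R.ι_ρ q b).symm.trans ((congrArg _ hb).trans hz)⟩

theorem Resol.eq_zero_of_isZero (hG : IsZero G) (U : Opens Y) (c : (R.A 0).obj.obj (op U))
    (hc : (R.d 0).hom.app (op U) c = 0) : c = 0 := by
  obtain ⟨i⟩ := R.nonempty_iso_Z
  obtain ⟨z, rfl⟩ := R.exists_of_cycle 0 c hc
  have : 𝟙 (R.Z 0) = 0 := (hG.of_iso i.symm).eq_of_src _ _
  have hz : z = 0 := congrArg (fun φ : R.Z 0 ⟶ R.Z 0 => φ.hom.app (op U) z) this
  rw [hz, map_zero]

end Groth.Agent.SimpGod16
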