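import Groth.Agent.Lib.SimpGod16.System
import Groth.Agent.Lib.SimpGod16.Resol
import Groth.Agent.Lib.SheafVan16.PullSec
import Mathlib.Algebra.Category.Grp.Limits
import Mathlib.Algebra.Category.Grp.FilteredColimits

/-! The functorial Godement resolution on one space over the base. -/

universe u

open CategoryTheory TopologicalSpace Opposite CategoryTheory.Limits

set_option autoImplicit false
set_option linter.style.haveILetI false
set_option backward.isDefEq.respectTransparency false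
set_option backward.isDefEq.respectTransparency.types false

namespace Groth.Agent.SimpGod16

open Groth.Agent.CohFound Groth.Agent.GodTot16

variable {S : TopCat.{u}} (G : (Sp S)ᵒᵖ ⥤ AddCommGrpCat.{u}) (F : CohTop.Ab S) (Y : Over S)

theorem C0_isSheaf : TopCat.Presheaf.IsSheaf (on (C0 G) Y) := by
  rw [TopCat.Presheaf.isSheaf_iff_isSheafUniqueGluing]
  intro ι U sf hsf
  have key : ∀ i j (y : Y.left) (hi : y ∈ U i) (hj : y ∈ U j), sf i ⟨y, hi⟩ = sf j ⟨y, hj⟩ := fun i j y hi hj =>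
    (C0_incl G Y (inf_le_left : U i ⊓ U j ≤ U i) (sf i) ⟨y, hi, hj⟩).symm.trans
      ((congrFun (hsf i j) ⟨y, hi, hj⟩).trans (C0_incl G Y (inf_le_right : U i ⊓ U j ≤ U j) (sf j) ⟨y, hi, hj⟩))
  choose k hk using fun y : (iSup U : Opens Y.left) => Opens.mem_iSup.1 y.2
  refine ⟨fun y => sf (k y) ⟨y.1, hk y⟩, fun i => funext fun y => ?_, fun s hs => funext fun y => ?_⟩
  · exact (C0_incl G Y (le_iSup U i) _ y).trans (key _ _ _ _ y.2)
  · exact (C0_incl G Y (le_iSup U (k y)) s ⟨y.1, hk y⟩).symm.trans (congrFun (hs (k y)) ⟨y.1, hk y⟩)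

/-- The sheaf of discontinuous sections on `Y`. -/
noncomputable def C0Sh : CohTop.Ab Y.left := ⟨on (C0 G) Y, C0_isSheaf G Y⟩

theorem C0Sh_isFlasque : TopCat.Sheaf.IsFlasque (C0Sh G Y) := isFlasque_mk _ fun U V h s => by
  classical
  refine ⟨fun y => if hy : y.1 ∈ V then s ⟨y.1, hy⟩ else 0, funext fun v => ?_⟩
  exact (C0_incl G Y h _ v).trans (dif_pos v.2)

theorem pullP_isSheaf : TopCat.Presheaf.IsSheaf (on (pullP F) Y) := by
  rw [TopCat.Presheaf.isSheaf_iff_isSheafUniqueGluing]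
  intro ι U sf hsf
  have key : ∀ i j (y : Y.left) (hi : y ∈ U i) (hj : y ∈ U j), (sf i).1 ⟨y, hi⟩ = (sf j).1 ⟨y, hj⟩ :=
    fun i j y hi hj => congrFun (congrArg Subtype.val (hsf i j)) ⟨y, hi, hj⟩
  choose k hk using fun y : (iSup U : Opens Y.left) => Opens.mem_iSup.1 y.2
  refine ⟨⟨fun y => (sf (k y)).1 ⟨y.1, hk y⟩, fun y => ?_⟩, fun i => Subtype.ext (funext fun y => ?_),
    fun s hs => Subtype.ext (funext fun y => ?_)⟩
  · obtain ⟨W, V, t, hW, ht⟩ := (sf (k y)).2 ⟨y.1, hk y⟩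
    refine ⟨W ⊓ U (k y), V, t, ⟨hW, hk y⟩, fun w hw => ?_⟩
    obtain ⟨h1, e⟩ := ht ⟨w.1, hw.2⟩ hw.1
    exact ⟨h1, (key (k w) (k y) w.1 (hk w) hw.2).trans e⟩
  · exact key _ _ _ _ y.2
  · exact congrFun (congrArg Subtype.val (hs (k y))) ⟨y.1, hk y⟩

/-- The inverse image sheaf, explicitly. -/
noncomputable def pullSh : CohTop.Ab Y.left := ⟨on (pullP F) Y, pullP_isSheaf F Y⟩

theorem nonempty_pull_iso_pullSh : Nonempty ((CohTop.pull Y.hom).obj F ≅ pullSh F Y) := by
  let G' := (CohTop.pull Y.hom).obj F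
  let σinv := fun y => (AddEquiv.ofBijective _ (SheafVan16.bijective_σ Y.hom F y)).symm
  have hσ : ∀ y a, SheafVan16.σ Y.hom F y (σinv y a) = a := fun y a =>
    (AddEquiv.ofBijective _ (SheafVan16.bijective_σ Y.hom F y)).apply_symm_apply a
  have hloc : ∀ {U : Opens Y.left} (t : G'.obj.obj (op U)),
      (fun v : U => σinv v.1 (SheafVan16.germ G' v.1 v.2 t)) ∈ locSec F (⟨Y, U⟩ : Sp S) := fun {U} t v => by
    obtain ⟨V, s, N, hN, -, hr⟩ := SheafVan16.exists_local Y.hom F t v.2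
    refine ⟨N, V, s, hN, fun w hw => ?_⟩
    obtain ⟨h1, h2, e⟩ := hr w.1 hw
    exact ⟨h2, (AddEquiv.symm_apply_eq _).2 e⟩
  let φ : G' ⟶ pullSh F Y :=
    ⟨{ app := fun U => AddCommGrpCat.ofHom
        { toFun := fun t => ⟨fun v => σinv v.1 (SheafVan16.germ G' v.1 v.2 t), hloc t⟩
          map_zero' := Subtype.ext (funext fun v => by
            exact (congrArg (σinv v.1) (map_zero (TopCat.Presheaf.germ G'.obj U.unop v.1 v.2).hom)).trans (map_zero (σinv v.1)))
          map_add' := fun a b => Subtype.ext (funext fun v => by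
            exact (congrArg (σinv v.1) (map_add (TopCat.Presheaf.germ G'.obj U.unop v.1 v.2).hom a b)).trans (map_add (σinv v.1) _ _)) }
       naturality := fun U V i => ConcreteCategory.hom_ext _ _ fun t => Subtype.ext (funext fun v =>
         congrArg (σinv v.1) (TopCat.Presheaf.germ_res_apply G'.obj i.unop v.1 v.2 t)) }⟩
  haveI : Mono φ := mono_of_injective_app _ fun U a b h => TopCat.Presheaf.section_ext G' U a b fun x hx =>
    (σinv x).injective (congrFun (congrArg Subtype.val h) ⟨x, hx⟩)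
  haveI : Epi φ := epi_of_locally_lift _ fun U s x hx => by
    obtain ⟨W, V, t, hW, ht⟩ := s.2 ⟨x, hx⟩
    refine ⟨W ⊓ U ⊓ (Opens.map Y.hom).obj V, inf_le_left.trans inf_le_right, ⟨⟨hW, hx⟩, (ht ⟨x, hx⟩ hW).1⟩,
      G'.obj.map (homOfLE inf_le_right).op (SheafVan16.unitSec Y.hom F t), Subtype.ext (funext fun v => ?_)⟩
    obtain ⟨h1, e⟩ := ht ⟨v.1, v.2.1.2⟩ v.2.1.1
    refine ((AddEquiv.symm_apply_eq _).2 ?_).trans e.symm
    exact (SheafVan16.germ_map inf_le_right v.1 v.2 _).trans (SheafVan16.σ_germ Y.hom F t v.1 h1).symm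
  haveI := isIso_of_mono_of_epi φ
  exact ⟨asIso φ⟩

/-- The resolution of the inverse image on `Y`. -/
noncomputable def resol : Resol (pullSh F Y) where
  A q := C0Sh (Q F q) Y
  flasque q := C0Sh_isFlasque _ Y
  d q := ⟨Functor.whiskerLeft (res Y).op (d F q)⟩
  d_d q := by
    refine ObjectProperty.hom_ext _ ?_
    show Functor.whiskerLeft (res Y).op (d F q) ≫ Functor.whiskerLeft (res Y).op (d F (q + 1)) = 0
    rw [← Functor.whiskerLeft_comp, d_d]
    rfl
  ε := ⟨Functor.whiskerLeft (res Y).op (unit (pullP F))⟩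
  ε_d := by
    refine ObjectProperty.hom_ext _ ?_
    show Functor.whiskerLeft (res Y).op (unit (pullP F)) ≫ Functor.whiskerLeft (res Y).op (d F 0) = 0
    rw [← Functor.whiskerLeft_comp, unit_d]
    rfl
  ε_inj U := (injective_iff_map_eq_zero _).2 fun s hs => pullP_gm_injective F Y s hs
  exact_zero U c hc y hy := by
    obtain ⟨V, hV, b, hyV, hb⟩ := locExact_zero F Y c hc y hy
    exact ⟨V, hV, hyV, b, hb⟩
  exact_succ q U c hc y hy := by
    obtain ⟨V, hV, b, hyV, hb⟩ := locExact_succ F q Y c hc y hy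
    exact ⟨V, hV, hyV, b, hb⟩

/-- The complex of the functorial resolution at `a`. -/
noncomputable def cx (a : Sp S) : CochainComplex AddCommGrpCat.{u} ℕ :=
  CochainComplex.of (fun q => (C F q).obj (op a)) (fun q => (d F q).app (op a)) fun q => by
    exact congrArg (fun φ : C F q ⟶ C F (q + 1 + 1) => φ.app (op a)) (d_d F q)

theorem cx_d (a : Sp S) (q : ℕ) (x : (C F q).obj (op a)) : (cx F a).d q (q + 1) x = (d F q).app (op a) x :=
  congrArg (fun g => g x) (CochainComplex.of_d (fun q => (C F q).obj (op a)) (fun q => (d F q).app (op a)) q)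

theorem nonempty_cx_homology (q : ℕ) :
    Nonempty ((cx F ⟨Y, ⊤⟩).homology q ≅ AddCommGrpCat.of (CohTop.H ((CohTop.pull Y.hom).obj F) q)) := by
  obtain ⟨e⟩ := (resol F Y).nonempty_homology_top q
  obtain ⟨i⟩ := nonempty_pull_iso_pullSh F Y
  have : (cx F ⟨Y, ⊤⟩) = (resol F Y).secCx ⊤ := rfl
  rw [this]
  exact ⟨e ≪≫ AddEquiv.toAddCommGrpIso
    (((hExt (pullSh F Y) q).trans
      { toFun := mp i.inv q ⊤
        invFun := mp i.hom q ⊤
        left_inv := fun x => by rw [← mp_comp, i.inv_hom_id, mp_id]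
        right_inv := fun x => by rw [← mp_comp, i.hom_inv_id, mp_id]
        map_add' := map_add _ }).trans (hExt _ q).symm)⟩

end Groth.Agent.SimpGod16
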