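import Groth.Agent.Lib.SimpGod16.Fibre
import Mathlib.Topology.Maps.Proper.Basic
import Mathlib.Topology.LocalAtTarget

/-! Descent for proper surjective maps with separated fibres. -/

universe u

open CategoryTheory TopologicalSpace Opposite CategoryTheory.Limits

set_option autoImplicit false
set_option linter.style.haveILetI false
set_option backward.isDefEq.respectTransparency false
set_option backward.isDefEq.respectTransparency.types false

namespace Groth.Agent.SimpGod16

variable {S : TopCat.{u}} {X : TopCat.{u}} (f : X ⟶ S)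

theorem goodFibre_of_proper {Y : Over S} (hp : IsProperMap Y.hom)
    (hs : ∀ y y' : Y.left, Y.hom y = Y.hom y' → y ≠ y' → ∃ U V : Set Y.left, IsOpen U ∧ IsOpen V ∧ y ∈ U ∧ y' ∈ V ∧ Disjoint U V)
    (s : S) : GoodFibre s Y where
  compact := hp.isCompact_preimage isCompact_singleton
  sep z hz z' hz' hne := hs z z' ((hz : Y.hom z = s).trans (hz' : Y.hom z' = s).symm) hne
  tube O hO := ⟨⟨(Y.hom '' (O : Set Y.left)ᶜ)ᶜ, (hp.isClosedMap _ O.isOpen.isClosed_compl).isOpen_compl⟩,
    fun ⟨y, hy, e⟩ => hy (hO e), fun y hy => by_contra fun h => hy ⟨y, h, rfl⟩⟩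

/-- The fibre power as a subspace of the power. -/
theorem exists_homeo_powSet (n : ℕ) :
    ∃ e : (widePullback S (fun _ : Fin (n + 1) => X) (fun _ => f) : TopCat.{u}) ≃ₜ
        {x : Fin (n + 1) → X | (fun i => f (x i)) ∈ {g : Fin (n + 1) → S | ∀ i, g i = g 0}},
      ∀ w i, (e w).1 i = WidePullback.π (fun _ : Fin (n + 1) => f) i w := by
  let P := {x : Fin (n + 1) → X | (fun i => f (x i)) ∈ {g : Fin (n + 1) → S | ∀ i, g i = g 0}}
  have hc : ∀ i, WidePullback.π (fun _ : Fin (n + 1) => f) i ≫ f =
      WidePullback.π (fun _ : Fin (n + 1) => f) 0 ≫ f := fun i => by rw [WidePullback.π_arrow, WidePullback.π_arrow]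
  let l : TopCat.of P ⟶ widePullback S (fun _ : Fin (n + 1) => X) (fun _ => f) :=
    WidePullback.lift (TopCat.ofHom ⟨fun x => f (x.1 0), f.hom.continuous.comp ((continuous_apply 0).comp continuous_subtype_val)⟩)
      (fun i => TopCat.ofHom ⟨fun x => x.1 i, (continuous_apply i).comp continuous_subtype_val⟩)
      fun i => ConcreteCategory.hom_ext _ _ fun x => x.2 i
  have hl : ∀ (x : P) i, WidePullback.π (fun _ : Fin (n + 1) => f) i (l x) = x.1 i := fun x i => by
    have h : l ≫ WidePullback.π (fun _ : Fin (n + 1) => f) i =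
        TopCat.ofHom ⟨fun x : P => x.1 i, (continuous_apply i).comp continuous_subtype_val⟩ := WidePullback.lift_π _ _ _ _ _
    exact ConcreteCategory.congr_hom h x
  exact ⟨{ toFun := fun w => ⟨fun i => WidePullback.π (fun _ : Fin (n + 1) => f) i w, fun i => ConcreteCategory.congr_hom (hc i) w⟩
           invFun := fun x => l x
           left_inv := fun w => Concrete.widePullback_ext' (fun _ : Fin (n + 1) => f) _ _ fun i => hl _ i
           right_inv := fun x => Subtype.ext (funext fun i => hl x i)
           continuous_toFun := (continuous_pi fun i => (WidePullback.π (fun _ : Fin (n + 1) => f) i).hom.continuous).subtype_mk _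
           continuous_invFun := l.hom.continuous }, fun w i => rfl⟩

theorem isProperMap_base (hf : IsProperMap f) (n : ℕ) :
    IsProperMap (WidePullback.base (fun _ : Fin (n + 1) => f) :
      widePullback S (fun _ : Fin (n + 1) => X) (fun _ => f) ⟶ S) := by
  obtain ⟨e, he⟩ := exists_homeo_powSet f n
  let D := {g : Fin (n + 1) → S | ∀ i, g i = g 0}
  let d : D ≃ₜ S :=
    { toFun := fun g => g.1 0
      invFun := fun s => ⟨fun _ => s, fun _ => rfl⟩
      left_inv := fun g => Subtype.ext (funext fun i => (g.2 i).symm)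
      right_inv := fun s => rfl
      continuous_toFun := (continuous_apply 0).comp continuous_subtype_val
      continuous_invFun := (continuous_pi fun _ => continuous_id).subtype_mk _ }
  have hpi : IsProperMap (fun x : Fin (n + 1) → X => fun i => f (x i)) := IsProperMap.pi_map fun _ => hf
  have h3 : IsProperMap (d ∘ D.restrictPreimage (fun x : Fin (n + 1) → X => fun i => f (x i)) ∘ e) :=
    d.isProperMap.comp ((hpi.restrictPreimage D).comp e.isProperMap)
  have hc : ((WidePullback.base (fun _ : Fin (n + 1) => f) : widePullback S (fun _ : Fin (n + 1) => X) (fun _ => f) ⟶ S) : _ → S) =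
      d ∘ D.restrictPreimage (fun x : Fin (n + 1) → X => fun i => f (x i)) ∘ e := funext fun w => by
    show _ = f ((e w).1 0)
    rw [he]
    exact (ConcreteCategory.congr_hom (WidePullback.π_arrow (fun _ : Fin (n + 1) => f) 0) w).symm
  rw [hc]
  exact h3

theorem sep_base (hs : ∀ x x' : X, f x = f x' → x ≠ x' → ∃ U V : Set X, IsOpen U ∧ IsOpen V ∧ x ∈ U ∧ x' ∈ V ∧ Disjoint U V)
    (n : ℕ) (y y' : (widePullback S (fun _ : Fin (n + 1) => X) (fun _ => f) : TopCat.{u}))
    (hy : WidePullback.base (fun _ : Fin (n + 1) => f) y = WidePullback.base (fun _ : Fin (n + 1) => f) y') (hne : y ≠ y') :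
    ∃ U V : Set (widePullback S (fun _ : Fin (n + 1) => X) (fun _ => f) : TopCat.{u}),
      IsOpen U ∧ IsOpen V ∧ y ∈ U ∧ y' ∈ V ∧ Disjoint U V := by
  obtain ⟨k, hk⟩ : ∃ k, WidePullback.π (fun _ : Fin (n + 1) => f) k y ≠ WidePullback.π (fun _ : Fin (n + 1) => f) k y' :=
    by_contra fun h => hne (Concrete.widePullback_ext' (fun _ : Fin (n + 1) => f) _ _ fun k => by_contra fun hk => h ⟨k, hk⟩)
  have hw : ∀ z, f (WidePullback.π (fun _ : Fin (n + 1) => f) k z) = WidePullback.base (fun _ : Fin (n + 1) => f) z :=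
    fun z => ConcreteCategory.congr_hom (WidePullback.π_arrow (fun _ : Fin (n + 1) => f) k) z
  obtain ⟨U, V, hU, hV, h1, h2, hd⟩ := hs _ _ ((hw y).trans (hy.trans (hw y').symm)) hk
  exact ⟨_, _, hU.preimage (WidePullback.π (fun _ : Fin (n + 1) => f) k).hom.continuous,
    hV.preimage (WidePullback.π (fun _ : Fin (n + 1) => f) k).hom.continuous, h1, h2, hd.preimage _⟩

theorem locExact_of_proper (hf : IsProperMap f)
    (hs : ∀ x x' : X, f x = f x' → x ≠ x' → ∃ U V : Set X, IsOpen U ∧ IsOpen V ∧ x ∈ U ∧ x' ∈ V ∧ Disjoint U V)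
    (hsurj : Function.Surjective f) (F : CohTop.Ab S) : (cech f).LocExact F := by
  refine (cech f).locExact_of_fibres F (fun s p => ?_) fun s => ?_
  · cases p with
    | zero => exact goodFibre_of_proper (Y := Over.mk (𝟙 S)) isProperMap_id (fun y y' h hne => absurd h hne) s
    | succ n => exact goodFibre_of_proper (isProperMap_base f hf n) (sep_base f hs n) s
  · obtain ⟨x, hx⟩ := hsurj s
    exact ⟨contractionOfSection f (T := ({s} : Set S)) (fun _ => x) continuous_const fun t => hx.trans (t.2 : t.1 = s).symm⟩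

end Groth.Agent.SimpGod16
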