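import Groth.Agent.Lib.SheafVan16.Stalk
import Mathlib.Topology.Sheaves.SheafCondition.UniqueGluing
import Mathlib.CategoryTheory.Comma.Over.Basic
import Mathlib.CategoryTheory.Abelian.FunctorCategory

/-! A Godement resolution functorial in all spaces over a base. -/

universe u

open CategoryTheory TopologicalSpace Opposite CategoryTheory.Limits

set_option autoImplicit false
set_option linter.style.haveILetI false
set_option backward.isDefEq.respectTransparency false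
set_option backward.isDefEq.respectTransparency.types false

namespace Groth.Agent.SimpGod16

open Groth.Agent.CohFound Groth.Agent.GodTot16

variable {S : TopCat.{u}}

/-- An open subset of a space over `S`. -/
structure Sp (S : TopCat.{u}) : Type (u + 1) where
  Y : Over S
  U : Opens Y.left

/-- The underlying space over `S`. -/
def Sp.toOver (a : Sp S) : Over S :=
  Over.mk (TopCat.ofHom ⟨((↑) : a.U → a.Y.left), continuous_subtype_val⟩ ≫ a.Y.hom)

instance : Category (Sp S) where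
  Hom a b := a.toOver ⟶ b.toOver
  id a := 𝟙 a.toOver
  comp f g := f ≫ g

/-- The underlying map. -/
def fn {a b : Sp S} (h : a ⟶ b) (v : a.U) : b.U := h.left v

theorem continuous_fn {a b : Sp S} (h : a ⟶ b) : Continuous (fn h) := h.left.hom.continuous

theorem fn_id (a : Sp S) (v : a.U) : fn (𝟙 a) v = v := rfl

theorem fn_comp {a b c : Sp S} (f : a ⟶ b) (g : b ⟶ c) (v : a.U) : fn (f ≫ g) v = fn g (fn f v) := rfl

theorem π_fn {a b : Sp S} (h : a ⟶ b) (v : a.U) : b.Y.hom (fn h v).1 = a.Y.hom v.1 :=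
  ConcreteCategory.congr_hom (Over.w h) v

theorem hom_ext {a b : Sp S} (f g : a ⟶ b) (h : ∀ v, (fn f v).1 = (fn g v).1) : f = g :=
  Over.OverMorphism.ext (ConcreteCategory.hom_ext _ _ fun v => Subtype.ext (h v))

/-- A morphism from a continuous map. -/
def mkHom {a b : Sp S} (f : a.U → b.U) (hf : Continuous f) (w : ∀ v, b.Y.hom (f v).1 = a.Y.hom v.1) : a ⟶ b :=
  Over.homMk (TopCat.ofHom ⟨f, hf⟩) (ConcreteCategory.hom_ext _ _ w)

theorem fn_mkHom {a b : Sp S} (f : a.U → b.U) (hf : Continuous f) (w) (v : a.U) :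
    fn (mkHom f hf w : a ⟶ b) v = f v := rfl

/-- The opens of a space over `S`. -/
def res (Y : Over S) : Opens Y.left ⥤ Sp S where
  obj U := ⟨Y, U⟩
  map {U V} i := mkHom (fun v => ⟨v.1, leOfHom i v.2⟩) (continuous_inclusion (leOfHom i)) fun _ => rfl
  map_id _ := hom_ext _ _ fun _ => rfl
  map_comp _ _ := hom_ext _ _ fun _ => rfl

/-- The restriction to a smaller open. -/
def incl (Y : Over S) {U V : Opens Y.left} (h : U ≤ V) : (⟨Y, U⟩ : Sp S) ⟶ ⟨Y, V⟩ := (res Y).map (homOfLE h)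

theorem fn_incl (Y : Over S) {U V : Opens Y.left} (h : U ≤ V) (v : U) : fn (incl Y h) v = ⟨v.1, h v.2⟩ := rfl

/-- The inverse image of an open. -/
def preim {a b : Sp S} (h : a ⟶ b) (W : Opens b.Y.left) : Opens a.Y.left where
  carrier := Subtype.val '' {v : a.U | (fn h v).1 ∈ W}
  is_open' := a.U.isOpen.isOpenMap_subtype_val _ (W.isOpen.preimage (continuous_subtype_val.comp (continuous_fn h)))

theorem preim_le {a b : Sp S} (h : a ⟶ b) (W : Opens b.Y.left) : preim h W ≤ a.U := fun _ ⟨v, _, e⟩ => e ▸ v.2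

theorem preim_mono {a b : Sp S} (h : a ⟶ b) {W W' : Opens b.Y.left} (i : W ≤ W') : preim h W ≤ preim h W' :=
  fun _ ⟨v, hv, e⟩ => ⟨v, i hv, e⟩

theorem mem_preim {a b : Sp S} (h : a ⟶ b) (W : Opens b.Y.left) (v : a.U) :
    v.1 ∈ preim h W ↔ (fn h v).1 ∈ W :=
  ⟨fun ⟨_, hv, e⟩ => Subtype.ext e ▸ hv, fun hv => ⟨v, hv, rfl⟩⟩

/-- The restricted map. -/
def restr {a b : Sp S} (h : a ⟶ b) (W : Opens b.Y.left) : (⟨a.Y, preim h W⟩ : Sp S) ⟶ ⟨b.Y, W⟩ :=
  mkHom (fun v => ⟨(fn h ⟨v.1, preim_le h W v.2⟩).1, (mem_preim h W ⟨v.1, preim_le h W v.2⟩).1 v.2⟩)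
    ((continuous_subtype_val.comp ((continuous_fn h).comp (continuous_inclusion (preim_le h W)))).subtype_mk _)
    fun v => π_fn h ⟨v.1, preim_le h W v.2⟩

theorem fn_restr {a b : Sp S} (h : a ⟶ b) (W : Opens b.Y.left) (v : preim h W) :
    (fn (restr h W) v).1 = (fn h ⟨v.1, preim_le h W v.2⟩).1 := rfl

section Presheaf

variable (G : (Sp S)ᵒᵖ ⥤ AddCommGrpCat.{u})

/-- The presheaf on a space over `S`. -/
abbrev on (Y : Over S) : TopCat.Presheaf AddCommGrpCat.{u} Y.left := (res Y).op ⋙ G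

/-- The stalk. -/
noncomputable abbrev St (Y : Over S) (y : Y.left) : AddCommGrpCat.{u} := TopCat.Presheaf.stalk (on G Y) y

/-- The germ. -/
noncomputable abbrev gm (Y : Over S) {U : Opens Y.left} (y : Y.left) (hy : y ∈ U) (s : G.obj (op ⟨Y, U⟩)) : St G Y y :=
  TopCat.Presheaf.germ (on G Y) U y hy s

theorem gm_res (Y : Over S) {U V : Opens Y.left} (h : U ≤ V) (y : Y.left) (hy : y ∈ U) (s : G.obj (op ⟨Y, V⟩)) :
    gm G Y y hy (G.map (incl Y h).op s) = gm G Y y (h hy) s :=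
  TopCat.Presheaf.germ_res_apply (on G Y) (homOfLE h) y hy s

theorem exists_gm (Y : Over S) (y : Y.left) (a : St G Y y) :
    ∃ (U : Opens Y.left) (hy : y ∈ U) (s : G.obj (op ⟨Y, U⟩)), gm G Y y hy s = a :=
  TopCat.Presheaf.exists_germ_eq (on G Y) a

theorem map_comp_apply {a b c : Sp S} (f : a ⟶ b) (g : b ⟶ c) (s : G.obj (op c)) :
    G.map (f ≫ g).op s = G.map f.op (G.map g.op s) := by
  rw [op_comp, G.map_comp]; rfl

/-- The map on stalks. -/
noncomputable def stMap {a b : Sp S} (h : a ⟶ b) (v : a.U) : St G b.Y (fn h v).1 ⟶ St G a.Y v.1 :=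
  colimit.desc ((OpenNhds.inclusion (fn h v).1).op ⋙ on G b.Y)
    { pt := St G a.Y v.1
      ι :=
        { app := fun W => G.map (restr h W.unop.1).op ≫
            TopCat.Presheaf.germ (on G a.Y) (preim h W.unop.1) v.1 ((mem_preim h _ v).2 W.unop.2)
          naturality := fun W W' i => by
            refine ConcreteCategory.hom_ext _ _ fun (s : G.obj (op ⟨b.Y, W.unop.1⟩)) => ?_
            show gm G a.Y v.1 _ (G.map (restr h W'.unop.1).op (G.map (incl b.Y (show W'.unop.1 ≤ W.unop.1 from leOfHom i.unop)).op s)) =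
              gm G a.Y v.1 _ (G.map (restr h W.unop.1).op s)
            rw [← map_comp_apply, ← gm_res G a.Y (preim_mono h (show W'.unop.1 ≤ W.unop.1 from leOfHom i.unop)) v.1
              ((mem_preim h _ v).2 W'.unop.2), ← map_comp_apply]
            congr 2 } }

theorem stMap_germ {a b : Sp S} (h : a ⟶ b) (v : a.U) {W : Opens b.Y.left} (hW : (fn h v).1 ∈ W)
    (s : G.obj (op ⟨b.Y, W⟩)) :
    stMap G h v (gm G b.Y _ hW s) = gm G a.Y v.1 ((mem_preim h W v).2 hW) (G.map (restr h W).op s) := by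
  exact ConcreteCategory.congr_hom (colimit.ι_desc (F := (OpenNhds.inclusion (fn h v).1).op ⋙ on G b.Y) _ (op ⟨W, hW⟩)) s

/-- The map on stalks at a given image point. -/
theorem stMap_gm_of_eq {a b : Sp S} (h : a ⟶ b) (v : a.U) {W : Opens b.Y.left} (hW : (fn h v).1 ∈ W)
    (s : G.obj (op ⟨b.Y, W⟩)) {W' : Opens a.Y.left} (hW' : v.1 ∈ W') (g : (⟨a.Y, W'⟩ : Sp S) ⟶ ⟨b.Y, W⟩)
    (hl : W' ≤ a.U) (hg : ∀ w : W', (fn g w).1 = (fn h ⟨w.1, hl w.2⟩).1) :
    stMap G h v (gm G b.Y _ hW s) = gm G a.Y v.1 hW' (G.map g.op s) := by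
  have le : W' ≤ preim h W := fun w hw => (mem_preim h W ⟨w, hl hw⟩).2 (hg ⟨w, hw⟩ ▸ (fn g ⟨w, hw⟩).2)
  rw [stMap_germ, ← gm_res G a.Y le v.1 hW', ← map_comp_apply]
  rw [show incl a.Y le ≫ restr h W = g from hom_ext _ _ fun w => (hg w).symm]

theorem stMap_incl (Y : Over S) {U V : Opens Y.left} (h : U ≤ V) (v : U) (x : St G Y v.1) :
    stMap G (incl Y h) v x = x := by
  obtain ⟨W, hW, s, rfl⟩ := exists_gm G Y v.1 x
  rw [← gm_res G Y (inf_le_left : W ⊓ U ≤ W) v.1 ⟨hW, v.2⟩]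
  refine (stMap_gm_of_eq G (incl Y h) v (W := W ⊓ U) ⟨hW, v.2⟩ _ (W' := W ⊓ U) ⟨hW, v.2⟩ (𝟙 _) inf_le_right
    fun _ => rfl).trans ?_
  rw [op_id, G.map_id]
  rfl

theorem stMap_id {a : Sp S} (v : a.U) (x : St G a.Y v.1) : stMap G (𝟙 a) v x = x := by
  obtain ⟨W, hW, s, rfl⟩ := exists_gm G a.Y v.1 x
  rw [← gm_res G a.Y (inf_le_left : W ⊓ a.U ≤ W) v.1 ⟨hW, v.2⟩]
  refine (stMap_gm_of_eq G (𝟙 a) v (W := W ⊓ a.U) ⟨hW, v.2⟩ _ (W' := W ⊓ a.U) ⟨hW, v.2⟩ (𝟙 _) inf_le_right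
    fun _ => rfl).trans ?_
  rw [op_id, G.map_id]
  rfl

theorem stMap_comp {a b c : Sp S} (f : a ⟶ b) (g : b ⟶ c) (v : a.U) (x : St G c.Y (fn g (fn f v)).1) :
    stMap G (f ≫ g) v x = stMap G f v (stMap G g (fn f v) x) := by
  obtain ⟨W, hW, s, rfl⟩ := exists_gm G c.Y _ x
  rw [stMap_germ G g (fn f v) hW, stMap_germ G f v, ← map_comp_apply]
  exact stMap_gm_of_eq G (f ≫ g) v (W := W) hW s _ (restr f (preim g W) ≫ restr g W) (preim_le f _) fun _ => rfl

/-- The sheaf of discontinuous sections of the stalks. -/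
noncomputable def C0 : (Sp S)ᵒᵖ ⥤ AddCommGrpCat.{u} where
  obj a := AddCommGrpCat.of (∀ v : a.unop.U, St G a.unop.Y v.1)
  map {b a} h := AddCommGrpCat.ofHom
    { toFun := fun s v => stMap G h.unop v (s (fn h.unop v))
      map_zero' := funext fun v => map_zero (stMap G h.unop v).hom
      map_add' := fun s t => funext fun v => map_add (stMap G h.unop v).hom _ _ }
  map_id a := ConcreteCategory.hom_ext _ _ fun s => funext fun v => stMap_id G v _
  map_comp {c b a} g f := ConcreteCategory.hom_ext _ _ fun s => funext fun v => stMap_comp G f.unop g.unop v _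

theorem C0_map_apply {a b : Sp S} (h : a ⟶ b) (s : (C0 G).obj (op b)) (v : a.U) :
    (C0 G).map h.op s v = stMap G h v (s (fn h v)) := rfl

theorem C0_incl (Y : Over S) {U V : Opens Y.left} (h : U ≤ V) (s : (C0 G).obj (op ⟨Y, V⟩)) (v : U) :
    (C0 G).map (incl Y h).op s v = s ⟨v.1, h v.2⟩ :=
  stMap_incl G Y h v _

/-- The germs. -/
noncomputable def unit : G ⟶ C0 G where
  app a := AddCommGrpCat.ofHom
    { toFun := fun s v => gm G a.unop.Y v.1 v.2 s
      map_zero' := funext fun v => map_zero _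
      map_add' := fun s t => funext fun v => map_add _ _ _ }
  naturality {b a} h := ConcreteCategory.hom_ext _ _ fun s => funext fun v =>
    (stMap_gm_of_eq G h.unop v (fn h.unop v).2 s v.2 h.unop le_rfl fun _ => rfl).symm

theorem unit_apply {a : Sp S} (s : G.obj (op a)) (v : a.U) : (unit G).app (op a) s v = gm G a.Y v.1 v.2 s := rfl

/-- Local vanishing from the germs. -/
theorem exists_map_eq_zero (Y : Over S) {U : Opens Y.left} (y : Y.left) (hy : y ∈ U) (s : G.obj (op ⟨Y, U⟩))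
    (h : gm G Y y hy s = 0) : ∃ (V : Opens Y.left) (hV : V ≤ U), y ∈ V ∧ G.map (incl Y hV).op s = 0 := by
  obtain ⟨W, hW, i, j, e⟩ := TopCat.Presheaf.germ_eq (on G Y) y hy hy s 0 (h.trans (map_zero _).symm)
  exact ⟨W, leOfHom i, hW, e.trans (map_zero _)⟩

end Presheaf

variable (F : CohTop.Ab S)

/-- Transport of stalks. -/
noncomputable def tr {x y : S} (e : x = y) : (stk x).obj F →+ (stk y).obj F := e ▸ AddMonoidHom.id _

theorem tr_germ {x y : S} (e : x = y) {V : Opens S} (hx : x ∈ V) (t : F.obj.obj (op V)) :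
    tr F e (SheafVan16.germ F x hx t) = SheafVan16.germ F y (e ▸ hx) t := by subst e; rfl

theorem tr_tr {x y z : S} (e : x = y) (e' : y = z) (a : (stk x).obj F) : tr F e' (tr F e a) = tr F (e.trans e') a := by
  subst e e'; rfl

/-- Families of stalks that are locally germs of sections. -/
def locSec (a : Sp S) : AddSubgroup (∀ v : a.U, (stk (a.Y.hom v.1)).obj F) where
  carrier := {s | ∀ v : a.U, ∃ (W : Opens a.Y.left) (V : Opens S) (t : F.obj.obj (op V)), v.1 ∈ W ∧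
    ∀ w : a.U, w.1 ∈ W → ∃ hw : a.Y.hom w.1 ∈ V, s w = SheafVan16.germ F _ hw t}
  zero_mem' v := ⟨⊤, ⊤, 0, trivial, fun w _ => ⟨trivial, (map_zero _).symm⟩⟩
  add_mem' {s s'} hs hs' v := by
    obtain ⟨W, V, t, hW, ht⟩ := hs v
    obtain ⟨W', V', t', hW', ht'⟩ := hs' v
    refine ⟨W ⊓ W', V ⊓ V', F.obj.map (homOfLE inf_le_left).op t + F.obj.map (homOfLE inf_le_right).op t',
      ⟨hW, hW'⟩, fun w hw => ?_⟩
    obtain ⟨h1, e1⟩ := ht w hw.1
    obtain ⟨h2, e2⟩ := ht' w hw.2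
    exact ⟨⟨h1, h2⟩, (congrArg₂ (· + ·) (e1.trans (SheafVan16.germ_map inf_le_left (a.Y.hom w.1) ⟨h1, h2⟩ t).symm)
      (e2.trans (SheafVan16.germ_map inf_le_right (a.Y.hom w.1) ⟨h1, h2⟩ t').symm)).trans (map_add _ _ _).symm⟩
  neg_mem' {s} hs v := by
    obtain ⟨W, V, t, hW, ht⟩ := hs v
    exact ⟨W, V, -t, hW, fun w hw => ⟨(ht w hw).1, (congrArg Neg.neg (ht w hw).2).trans (map_neg _ _).symm⟩⟩

/-- The inverse images of `F`, as one presheaf. -/
noncomputable def pullP : (Sp S)ᵒᵖ ⥤ AddCommGrpCat.{u} where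
  obj a := AddCommGrpCat.of (locSec F a.unop)
  map {b a} h := AddCommGrpCat.ofHom
    { toFun := fun s => ⟨fun v => tr F (π_fn h.unop v) (s.1 (fn h.unop v)), fun v => by
        obtain ⟨W, V, t, hW, ht⟩ := s.2 (fn h.unop v)
        refine ⟨preim h.unop W, V, t, (mem_preim h.unop W v).2 hW, fun w hw => ?_⟩
        obtain ⟨hV, e⟩ := ht (fn h.unop w) ((mem_preim h.unop W w).1 hw)
        exact ⟨π_fn h.unop w ▸ hV, (congrArg _ e).trans (tr_germ F _ _ _)⟩⟩
      map_zero' := Subtype.ext (funext fun v => map_zero _)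
      map_add' := fun s t => Subtype.ext (funext fun v => map_add _ _ _) }
  map_id a := ConcreteCategory.hom_ext _ _ fun s => Subtype.ext (funext fun v => rfl)
  map_comp {c b a} g f := ConcreteCategory.hom_ext _ _ fun s => Subtype.ext (funext fun v => (tr_tr F _ _ _).symm)

theorem pullP_incl (Y : Over S) {U V : Opens Y.left} (h : U ≤ V) (s : (pullP F).obj (op ⟨Y, V⟩)) (v : U) :
    ((pullP F).map (incl Y h).op s).1 v = s.1 ⟨v.1, h v.2⟩ := rfl

/-- The successive cokernels. -/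
noncomputable def Q : ℕ → ((Sp S)ᵒᵖ ⥤ AddCommGrpCat.{u})
  | 0 => pullP F
  | q + 1 => cokernel (unit (Q q))

/-- The terms of the resolution. -/
noncomputable abbrev C (q : ℕ) : (Sp S)ᵒᵖ ⥤ AddCommGrpCat.{u} := C0 (Q F q)

/-- The differential. -/
noncomputable def d (q : ℕ) : C F q ⟶ C F (q + 1) := cokernel.π (unit (Q F q)) ≫ unit (Q F (q + 1))

theorem d_d (q : ℕ) : d F q ≫ d F (q + 1) = 0 := by
  have : unit (Q F (q + 1)) ≫ cokernel.π (unit (Q F (q + 1))) = 0 := cokernel.condition _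
  rw [d, d, Category.assoc, reassoc_of% this, zero_comp, comp_zero]

theorem π_app_surjective (q : ℕ) (a : (Sp S)ᵒᵖ) :
    Function.Surjective ((cokernel.π (unit (Q F q))).app a) :=
  (AddCommGrpCat.epi_iff_surjective _).1 inferInstance

theorem exists_of_π_app (q : ℕ) (a : (Sp S)ᵒᵖ) (c : (C F q).obj a)
    (hc : (cokernel.π (unit (Q F q))).app a c = 0) : ∃ b, (unit (Q F q)).app a b = c :=
  (ShortComplex.ab_exact_iff _).1
    ((ShortComplex.exact_cokernel (unit (Q F q))).map ((evaluation _ AddCommGrpCat.{u}).obj a)) c hc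

/-- Cycles in positive degree are locally boundaries. -/
theorem locExact_succ (q : ℕ) (Y : Over S) {U : Opens Y.left} (c : (C F (q + 1)).obj (op ⟨Y, U⟩))
    (hc : (d F (q + 1)).app _ c = 0) (y : Y.left) (hy : y ∈ U) :
    ∃ (V : Opens Y.left) (hV : V ≤ U) (b : (C F q).obj (op ⟨Y, V⟩)), y ∈ V ∧
      (d F q).app _ b = (C F (q + 1)).map (incl Y hV).op c := by
  have h0 : gm (Q F (q + 2)) Y y hy ((cokernel.π (unit (Q F (q + 1)))).app _ c) = 0 := congrFun hc ⟨y, hy⟩
  obtain ⟨V, hV, hyV, e⟩ := exists_map_eq_zero _ Y y hy _ h0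
  obtain ⟨e', he'⟩ := exists_of_π_app F (q + 1) _ ((C F (q + 1)).map (incl Y hV).op c)
    ((NatTrans.naturality_apply (cokernel.π (unit (Q F (q + 1)))) _ c).trans e)
  obtain ⟨b, hb⟩ := π_app_surjective F q (op ⟨Y, V⟩) e'
  exact ⟨V, hV, b, hyV, (congrArg ((unit (Q F (q + 1))).app _) hb).trans he'⟩

/-- Cycles in degree zero are locally sections of the inverse image. -/
theorem locExact_zero (Y : Over S) {U : Opens Y.left} (c : (C F 0).obj (op ⟨Y, U⟩))
    (hc : (d F 0).app _ c = 0) (y : Y.left) (hy : y ∈ U) :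
    ∃ (V : Opens Y.left) (hV : V ≤ U) (b : (pullP F).obj (op ⟨Y, V⟩)), y ∈ V ∧
      (unit (pullP F)).app _ b = (C F 0).map (incl Y hV).op c := by
  have h0 : gm (Q F 1) Y y hy ((cokernel.π (unit (Q F 0))).app _ c) = 0 := congrFun hc ⟨y, hy⟩
  obtain ⟨V, hV, hyV, e⟩ := exists_map_eq_zero _ Y y hy _ h0
  obtain ⟨e', he'⟩ := exists_of_π_app F 0 _ ((C F 0).map (incl Y hV).op c)
    ((NatTrans.naturality_apply (cokernel.π (unit (Q F 0))) _ c).trans e)
  exact ⟨V, hV, e', hyV, he'⟩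

theorem unit_d : unit (pullP F) ≫ d F 0 = 0 := by
  show unit (Q F 0) ≫ cokernel.π (unit (Q F 0)) ≫ unit (Q F 1) = 0
  rw [cokernel.condition_assoc, zero_comp]

/-- The value at a point of a germ of the inverse image. -/
theorem pullP_gm_injective (Y : Over S) {U : Opens Y.left} (s : (pullP F).obj (op ⟨Y, U⟩))
    (h : (unit (pullP F)).app _ s = 0) : s = 0 := by
  refine Subtype.ext (funext fun v => ?_)
  obtain ⟨V, hV, hvV, e⟩ := exists_map_eq_zero _ Y v.1 v.2 s (congrFun h v)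
  exact congrFun (congrArg Subtype.val e) ⟨v.1, hvV⟩

end Groth.Agent.SimpGod16
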